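import Mathlib
import Cfsg.Prelude.Def_Local

/-!
Interfaces for O'Nan's theorem on abelian normal subgroups of point stabilisers of 2-transitive
groups: the field of a geometric spread with shears, and the recognition of `PSL` from its
transvection groups.
-/

set_option autoImplicit false

namespace Cfsg.Agent.Lib.ONan64

universe u v

/-- A spread of subgroups of order `o` of an elementary abelian `p`-group in which a component
meeting the sum of two components lies in it, with shears fixing any component. -/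
structure GeomSpread (V : Type u) [AddCommGroup V] {H : Type v} (E : H → AddSubgroup V) (p o : ℕ) :
    Prop where
  prime : p.Prime
  expo : ∀ x : V, p • x = 0
  card : ∀ z, Nat.card ↥(E z) = o
  one_lt : 1 < o
  two : ∃ z1 z2 : H, z1 ≠ z2
  exists_mem : ∀ x : V, x ≠ 0 → ∃ z, x ∈ E z
  inj : ∀ z1 z2 : H, ∀ x ∈ E z1, x ∈ E z2 → x ≠ 0 → z1 = z2
  plane : ∀ z1 z2 z : H, ∀ x ∈ E z, x ≠ 0 → x ∈ E z1 ⊔ E z2 → E z ≤ E z1 ⊔ E z2
  shear : ∀ c z1 z2 : H, z1 ≠ c → z2 ≠ c → E z2 ≤ E c ⊔ E z1 →
    ∃ σ : V ≃+ V, (∀ x, σ x - x ∈ E c) ∧ (∀ x ∈ E c, σ x = x) ∧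
      (∀ z, ∃ z', (E z).map σ.toAddMonoidHom = E z') ∧ (E z1).map σ.toAddMonoidHom = E z2

/-- Brick FIELD: such a spread is the set of one-dimensional subspaces over a field of order `o`. -/
def FieldStmt : Prop :=
  ∀ (V : Type u) [AddCommGroup V] [Finite V] (H : Type v) [Finite H] (E : H → AddSubgroup V)
    (p o : ℕ), GeomSpread V E p o →
    ∃ (F : Type) (_ : Field F) (_ : Fintype F) (_ : Module F V), Fintype.card F = o ∧
      ∀ z, ∀ x ∈ E z, x ≠ 0 → ∀ y, y ∈ E z ↔ ∃ r : F, y = r • x

section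
variable (F : Type) [Field F] (D : ℕ)

/-- The points of the projective space of dimension `D`. -/
abbrev Pts : Type := Projectivization F (Fin (D + 1) → F)

variable {F D}

/-- `c` lies on the join of `a` and `b`. -/
def OnJoin (a b c : Pts F D) : Prop := c.submodule ≤ a.submodule ⊔ b.submodule

end

/-- A family of subgroups of full size of elations, indexed by their centres, in a faithful
collineation group of a projective space. -/
structure ElationFamily (G : Type u) (X : Type v) [Group G] [MulAction G X] (F : Type) [Field F]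
    [Fintype F] (D : ℕ) (φ : X ≃ Pts F D) (N : X → Subgroup G) : Prop where
  dim : 2 ≤ D
  conj : ∀ (g : G) (x : X), ∀ n ∈ N x, g * n * g⁻¹ ∈ N (g • x)
  card : ∀ x, Nat.card ↥(N x) = Fintype.card F ^ D
  coll : ∀ (g : G) (a b c : X), OnJoin (φ a) (φ b) (φ c) →
    OnJoin (φ (g • a)) (φ (g • b)) (φ (g • c))
  centre : ∀ x, ∀ n ∈ N x, n • x = x ∧ ∀ y, OnJoin (φ x) (φ y) (φ (n • y))
  axis : ∀ x, ∀ n ∈ N x, n ≠ 1 → ∃ f : (Fin (D + 1) → F) →ₗ[F] F, f ≠ 0 ∧
    ∀ y, n • y = y ↔ f (φ y).rep = 0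
  ti : ∀ x y, N x = N y → x = y

/-- Brick PROJ: the generalised Fitting subgroup of such a group is `PSL`. -/
def ProjStmt : Prop :=
  ∀ (G : Type u) (X : Type v) [Group G] [Finite G] [MulAction G X] [FaithfulSMul G X]
    (F : Type) [Field F] [Fintype F] (D : ℕ) (φ : X ≃ Pts F D) (N : X → Subgroup G),
    ElationFamily G X F D φ N →
    Nonempty (↥(Cfsg.generalizedFittingSubgroup G) ≃*
      Matrix.ProjectiveSpecialLinearGroup (Fin (D + 1)) F)

end Cfsg.Agent.Lib.ONan64
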