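import Cfsg.Agent.Lib.ONan64.Lines

/-!
Fixed point sets: the map `a ↦ τ a n` keeps them, and a line consists of its first point and one
orbit.
-/

set_option autoImplicit false
set_option linter.unusedSectionVars false

namespace Cfsg.Agent.Lib.ONan64

open MulAction

variable {G X : Type*} [Group G] [MulAction G X]

/-- Fixed points of an element. -/
def Fx (X : Type*) [MulAction G X] (a : G) : Set X := {w | a • w = w}

variable {N : X → Subgroup G}

namespace Sys

variable {p : ℕ} (S : Sys N p) [Finite G] [Finite X] [FaithfulSMul G X] {x y : X}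
include S

theorem fix_line {a : G} {u v w : X} (ha : a ∈ N x) (huv : u ≠ v) (hu : a • u = u) (hv : a • v = v)
    (hw : w ∈ T N u v) : a • w = w := by
  by_cases hx : x ∈ T N u v
  · rcases eq_or_ne u x with rfl | hux
    · exact S.fix_of_mem_T hw (Subgroup.mem_sup_left (mem_A.2 ⟨ha, hv⟩))
    · have h : a ∈ A N x u := mem_A.2 ⟨ha, hu⟩
      exact S.fix_of_mem_T hw (S.A_le_W huv hx (S.mem_T_left huv) hux.symm h)
  · by_contra hne
    have hxw : x ≠ w := fun e => hx (e ▸ hw)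
    have h1 := S.smul_mem_T a hw
    rw [hu, hv] at h1
    have h2 := S.smul_mem_line hxw ha
    have e1 := S.T_eq hxw (S.mem_T_right hxw) h2 (Ne.symm hne)
    have e2 := S.T_eq huv hw h1 (Ne.symm hne)
    exact hx (e2 ▸ e1 ▸ S.mem_T_left hxw)

theorem tau_mem_A (hxy : x ≠ y) {a n : G} (ha : a ∈ A N x y) (hn : n ∈ N y) :
    tau a n ∈ A N y x :=
  mem_A.2 ⟨S.tau_mem ha hn, (S.fix_iff_tau ha hn).1 (S.fix_orbit hxy hn a ha)⟩

theorem tau_ne_one {a n : G} (ha : a ∈ A N x y) (ha1 : a ≠ 1) (hn : n • x ≠ x) :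
    tau a n ≠ 1 := fun h =>
  hn (S.fix_of_commute (y := y) (mem_A.1 ha).1 ha1
    (mul_inv_eq_iff_eq_mul.mp (mul_inv_eq_one.mp h)).symm)

theorem tau_mul_right {a r s : G} (ha : a ∈ A N x y) (hr : r ∈ N y) (hs : s ∈ N y) :
    tau a (r * s) = tau a r * tau a s := by
  have h1 := S.comm y r⁻¹ (inv_mem hr) _ (S.tau_mem ha hs)
  calc tau a (r * s) = (a * r * a⁻¹) * (tau a s * r⁻¹) := by simp [tau, mul_assoc]
    _ = (a * r * a⁻¹) * (r⁻¹ * tau a s) := by rw [h1]
    _ = tau a r * tau a s := by simp [tau, mul_assoc]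

theorem tau_mul_left (hxy : x ≠ y) {a b n : G} (ha : a ∈ A N x y) (hb : b ∈ A N x y)
    (hn : n ∈ N y) : tau (a * b) n = tau b n * tau a n := by
  have h1 := S.A_comm hxy ha (S.tau_mem_A hxy hb hn)
  calc tau (a * b) n = (a * tau b n) * (n * a⁻¹ * n⁻¹) := by simp [tau, mul_assoc]
    _ = tau b n * tau a n := by rw [h1]; simp [tau, mul_assoc]

theorem tau_injOn (hxy : x ≠ y) {a b n : G} (ha : a ∈ A N x y) (hb : b ∈ A N x y) (hn : n ∈ N y)
    (hnx : n • x ≠ x) (h : tau a n = tau b n) : a = b := by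
  by_contra hab
  have h1 := S.tau_mul_left hxy hb (mul_mem (inv_mem hb) ha) hn
  rw [mul_inv_cancel_left, h, right_eq_mul] at h1
  exact S.tau_ne_one (mul_mem (inv_mem hb) ha) (fun e => hab (inv_mul_eq_one.mp e).symm) hnx h1

theorem fx_subset_fx_tau {a n : G} (ha : a ∈ A N x y) (hn : n ∈ N y) :
    Fx X a ⊆ Fx X (tau a n) := by
  intro w hw
  have h : a • (n⁻¹ • w) = n⁻¹ • w := by
    rcases eq_or_ne y w with rfl | hyw
    · rw [S.le y _ (inv_mem hn), (mem_A.1 ha).2]
    · exact S.fix_line (mem_A.1 ha).1 hyw (mem_A.1 ha).2 hw (S.smul_mem_line hyw (inv_mem hn))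
  show tau a n • w = w
  rw [tau, mul_smul, mul_smul, mul_smul, inv_smul_eq_iff.2 h.symm, smul_inv_smul]
  exact hw

theorem exists_moving (hxy : x ≠ y) : ∃ n ∈ N y, n • x ≠ x := by
  by_contra h
  push Not at h
  obtain ⟨a, ha, ha1⟩ := S.exists_ne_one_A hxy.symm
  refine ha1 (FaithfulSMul.eq_of_smul_eq_smul (α := X) fun z => ?_)
  rw [one_smul]
  rcases eq_or_ne z y with rfl | hzy
  · exact S.le z a (mem_A.1 ha).1
  obtain ⟨g, hgx, hgy⟩ := S.h2 z y x y hzy hxy
  have h1 := h _ (S.conj_mem_of_fix hgy (mem_A.1 ha).1)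
  rw [mul_smul, mul_smul, inv_smul_eq_iff.2 hgx.symm, ← hgx, smul_left_cancel_iff] at h1
  exact h1

/-- The fixed points of `a` and `τ a n` are the same. -/
theorem fx_tau (hxy : x ≠ y) {a n : G} (ha : a ∈ A N x y) (hn : n ∈ N y) (hnx : n • x ≠ x) :
    Fx X (tau a n) = Fx X a := by
  classical
  obtain ⟨u, hu, huy⟩ := S.exists_moving hxy.symm
  let f : ↥(A N x y) → ↥(A N x y) := fun b =>
    ⟨tau (tau (b : G) n) u, S.tau_mem_A hxy.symm (S.tau_mem_A hxy b.2 hn) hu⟩
  have hf : Function.Bijective f := by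
    refine Finite.injective_iff_bijective.1 fun b c h => Subtype.ext ?_
    exact S.tau_injOn hxy b.2 c.2 hn hnx (S.tau_injOn hxy.symm (S.tau_mem_A hxy b.2 hn)
      (S.tau_mem_A hxy c.2 hn) hu huy (congrArg Subtype.val h))
  haveI := Fintype.ofFinite ↥(A N x y)
  have hle : ∀ b : ↥(A N x y), (Fx X (b : G)).ncard ≤ (Fx X (f b : G)).ncard := fun b =>
    Set.ncard_le_ncard ((S.fx_subset_fx_tau b.2 hn).trans
      (S.fx_subset_fx_tau (S.tau_mem_A hxy b.2 hn) hu))
  have hsum : ∑ b : ↥(A N x y), (Fx X (b : G)).ncard = ∑ b : ↥(A N x y), (Fx X (f b : G)).ncard :=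
    ((Equiv.ofBijective f hf).sum_comp fun b : ↥(A N x y) => (Fx X (b : G)).ncard).symm
  have heq := (Finset.sum_eq_sum_iff_of_le fun b _ => hle b).1 hsum ⟨a, ha⟩ (Finset.mem_univ _)
  refine (Set.eq_of_subset_of_ncard_le (S.fx_subset_fx_tau ha hn) ?_).symm
  exact heq.symm ▸ Set.ncard_le_ncard (S.fx_subset_fx_tau (S.tau_mem_A hxy ha hn) hu)

/-- Every centre on an axis carries an elation with the same axis. -/
theorem exists_elation_centre {a : G} {z : X} (ha : a ∈ N x) (ha1 : a ≠ 1) (hz : a • z = z) :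
    ∃ b ∈ N z, b ≠ 1 ∧ Fx X b = Fx X a := by
  rcases eq_or_ne x z with rfl | hxz
  · exact ⟨a, ha, ha1, rfl⟩
  obtain ⟨n, hn, hnx⟩ := S.exists_moving hxz
  have h : a ∈ A N x z := mem_A.2 ⟨ha, hz⟩
  exact ⟨tau a n, S.tau_mem h hn, S.tau_ne_one h ha1 hnx, S.fx_tau hxz h hn hnx⟩

theorem fix_set_symm (hxy : x ≠ y) {w : X} (h : ∀ a ∈ A N x y, a • w = w) :
    ∀ b ∈ A N y x, b • w = w := by
  obtain ⟨n, hn, hnx⟩ := S.exists_moving hxy
  let f : ↥(A N x y) → ↥(A N y x) := fun a => ⟨tau (a : G) n, S.tau_mem_A hxy a.2 hn⟩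
  have hinj : Function.Injective f := fun a b e =>
    Subtype.ext (S.tau_injOn hxy a.2 b.2 hn hnx (congrArg Subtype.val e))
  have hsur := (Function.Injective.bijective_of_nat_card_le hinj
    (S.card_A hxy hxy.symm).le).2
  intro b hb
  obtain ⟨a, ha⟩ := hsur ⟨b, hb⟩
  have e : tau (a : G) n = b := congrArg Subtype.val ha
  rw [← e]
  exact S.fx_subset_fx_tau a.2 hn (h a a.2)

theorem A_eq_of_fix {z : X} (hxy : x ≠ y) (hxz : x ≠ z) (h : ∀ a ∈ A N x y, a • z = z) :
    A N x y = A N x z :=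
  Subgroup.eq_of_le_of_card_ge (fun a ha => mem_A.2 ⟨(mem_A.1 ha).1, h a ha⟩)
    (S.card_A hxy hxz).le

/-- An element fixing two points fixes the common fixed points of their small group. -/
theorem fix_of_fix_pair {a : G} {u v w : X} (ha : a ∈ N x) (huv : u ≠ v) (hu : a • u = u)
    (hv : a • v = v) (hw : ∀ b ∈ A N u v, b • w = w) : a • w = w := by
  rcases eq_or_ne a 1 with rfl | ha1
  · exact one_smul _ _
  obtain ⟨b, hb, -, hfx⟩ := S.exists_elation_centre ha ha1 hu
  have hbv : b • v = v := by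
    have : v ∈ Fx X b := hfx.symm ▸ hv
    exact this
  have hbw : w ∈ Fx X b := hw b (mem_A.2 ⟨hb, hbv⟩)
  exact (hfx ▸ hbw : w ∈ Fx X a)

/-- The orbit of `y` under `N x`. -/
def Orb (_S : Sys N p) (x y : X) : Set X := {w | ∃ n ∈ N x, n • y = w}

theorem card_orb_mul (x y : X) :
    (S.Orb x y).ncard * Nat.card ↥(A N x y) = Nat.card ↥(N x) := by
  have h1 : Nat.card (orbit ↥(N x) y) * Nat.card (stabilizer ↥(N x) y) = Nat.card ↥(N x) := by
    rw [← Nat.card_prod]
    exact Nat.card_congr (orbitProdStabilizerEquivGroup ↥(N x) y)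
  have h2 : Nat.card (stabilizer ↥(N x) y) = Nat.card ↥(A N x y) :=
    Nat.card_congr
      { toFun := fun g => ⟨(g.1 : G), mem_A.2 ⟨g.1.2, mem_stabilizer_iff.1 g.2⟩⟩
        invFun := fun a => ⟨⟨a.1, (mem_A.1 a.2).1⟩, mem_stabilizer_iff.2 (mem_A.1 a.2).2⟩
        left_inv := fun _ => rfl
        right_inv := fun _ => rfl }
  have h3 : S.Orb x y = orbit ↥(N x) y := by
    ext w
    exact ⟨fun ⟨n, hn, e⟩ => ⟨⟨n, hn⟩, e⟩, fun ⟨n, e⟩ => ⟨n.1, n.2, e⟩⟩
  rwa [h2, Nat.card_coe_set_eq, ← h3] at h1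

theorem orb_subset_T (hxy : x ≠ y) : S.Orb x y ⊆ T N x y := fun _ ⟨_, hn, e⟩ =>
  e ▸ S.smul_mem_line hxy hn

theorem orb_ne_left (hxy : x ≠ y) {w : X} (hw : w ∈ S.Orb x y) : w ≠ x := by
  rintro rfl
  obtain ⟨n, hn, e⟩ := hw
  rw [smul_eq_iff_eq_inv_smul, S.le _ _ (inv_mem hn)] at e
  exact hxy e.symm

theorem card_pairs (x : X) (P : ℕ) (hP : ∀ w, w ≠ x → Nat.card ↥(A N x w) = P) [Fintype X]
    [DecidableEq X] [Fintype ↥(N x)] :
    ∑ a : ↥(N x), (Fx X (a : G) \ {x}).ncard = (Fintype.card X - 1) * P := by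
  classical
  have h1 : ∀ a : ↥(N x), (Fx X (a : G) \ {x}).ncard
      = ((Finset.univ.erase x).filter fun w => (a : G) • w = w).card := fun a => by
    rw [← Set.ncard_coe_finset]
    congr 1
    ext w
    simp [Fx, and_comm]
  have h2 : ∀ w, w ≠ x →
      ((Finset.univ : Finset ↥(N x)).filter fun a : ↥(N x) => (a : G) • w = w).card = P := by
    intro w hw
    rw [← hP w hw, ← Fintype.card_subtype, ← Nat.card_eq_fintype_card]
    exact Nat.card_congr
      { toFun := fun g => ⟨(g.1 : G), mem_A.2 ⟨g.1.2, g.2⟩⟩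
        invFun := fun a => ⟨⟨a.1, (mem_A.1 a.2).1⟩, (mem_A.1 a.2).2⟩
        left_inv := fun _ => rfl
        right_inv := fun _ => rfl }
  rw [Finset.sum_congr rfl fun a _ => h1 a]
  simp only [Finset.card_filter]
  rw [Finset.sum_comm]
  rw [Finset.sum_congr rfl fun w hw => (Finset.card_filter _ _).symm.trans
    (h2 w (Finset.mem_erase.1 hw).1)]
  simp

/-- The common fixed points of `A x y` are `x` and the orbit of `y`. -/
theorem mem_orb_of_fix {z : X} (hxy : x ≠ y) (hzx : z ≠ x) (hz : ∀ a ∈ A N x y, a • z = z) :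
    z ∈ S.Orb x y := by
  classical
  haveI := Fintype.ofFinite X
  haveI := Fintype.ofFinite ↥(N x)
  by_contra hzo
  set P := Nat.card ↥(A N x y) with hPdef
  set o := (S.Orb x y).ncard with hodef
  let Fs : X → X → Set X := fun u v => {w | w ≠ u ∧ ∀ a ∈ A N u v, a • w = w}
  set f := (Fs x y).ncard with hfdef
  have hP2 : 1 < P := S.one_lt_card_A hxy
  have hm : o * P = Nat.card ↥(N x) := S.card_orb_mul x y
  have hz' : (S.Orb x z).ncard = o := by
    have h := S.card_orb_mul x z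
    rw [← S.A_eq_of_fix hxy hzx.symm hz, ← hm] at h
    exact Nat.eq_of_mul_eq_mul_right (by omega) h
  have hinv : ∀ n : G, n ∈ N x → ∀ w : X, (∀ a ∈ A N x y, a • w = w) →
      ∀ a ∈ A N x y, a • (n • w) = n • w :=
    fun n hn w hw a ha => by
      rw [← mul_smul, S.comm x a (mem_A.1 ha).1 n hn, mul_smul, hw a ha]
  have hf2 : 2 * o ≤ f := by
    have hsub : S.Orb x y ∪ S.Orb x z ⊆ Fs x y := by
      rintro w (hw | hw)
      · refine ⟨S.orb_ne_left hxy hw, ?_⟩
        obtain ⟨n, hn, rfl⟩ := hw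
        exact hinv n hn y fun a ha => (mem_A.1 ha).2
      · refine ⟨S.orb_ne_left hzx.symm hw, ?_⟩
        obtain ⟨n, hn, rfl⟩ := hw
        exact hinv n hn z hz
    have hdis : Disjoint (S.Orb x y) (S.Orb x z) := by
      rw [Set.disjoint_left]
      rintro w ⟨n, hn, rfl⟩ ⟨m, hm', e⟩
      exact hzo ⟨m⁻¹ * n, mul_mem (inv_mem hm') hn, by rw [mul_smul, ← e, inv_smul_smul]⟩
    calc 2 * o = (S.Orb x y ∪ S.Orb x z).ncard := by
          rw [Set.ncard_union_eq hdis, hz', two_mul]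
      _ ≤ f := Set.ncard_le_ncard hsub
  have hfu : ∀ u v, u ≠ v → (Fs u v).ncard = f := by
    intro u v huv
    obtain ⟨g, rfl, rfl⟩ := S.h2 x y u v hxy huv
    have : Fs (g • x) (g • y) = (fun w => g • w) '' Fs x y := by
      ext w
      constructor
      · rintro ⟨hw1, hw2⟩
        refine ⟨g⁻¹ • w, ⟨fun e => hw1 (by rw [← e, smul_inv_smul]), fun a ha => ?_⟩,
          smul_inv_smul g w⟩
        have := hw2 _ ((S.conj_mem_A g x y a).2 ha)
        rw [mul_smul, mul_smul] at this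
        exact eq_inv_smul_iff.2 this
      · rintro ⟨w, ⟨hw1, hw2⟩, rfl⟩
        refine ⟨fun e => hw1 (smul_left_cancel g e), fun a ha => ?_⟩
        have h1 : g⁻¹ * a * g ∈ A N x y :=
          (S.conj_mem_A g x y _).1 (by simpa [mul_assoc] using ha)
        have := hw2 _ h1
        rwa [mul_smul, mul_smul, inv_smul_eq_iff] at this
    rw [this, Set.ncard_image_of_injective _ fun a b e => smul_left_cancel g e]
  have hbound : ∀ a : ↥(N x), a ≠ 1 → (Fx X (a : G)).ncard * f ≤ Fintype.card X - 1 := by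
    intro a ha
    obtain ⟨w, hw⟩ : ∃ w, (a : G) • w ≠ w := by
      by_contra h
      push Not at h
      exact ha (Subtype.ext (FaithfulSMul.eq_of_smul_eq_smul (α := X) fun w => by
        rw [h w, Subgroup.coe_one, one_smul]))
    set Φ : Finset X := (Fx X (a : G)).toFinset with hΦ
    have hΦ' : ∀ u ∈ Φ, (a : G) • u = u := fun u hu => by
      rw [hΦ, Set.mem_toFinset] at hu
      exact hu
    have hne : ∀ u ∈ Φ, w ≠ u := fun u hu e => hw (by rw [e]; exact hΦ' u hu)
    have hdis : (Φ : Set X).PairwiseDisjoint fun u => (Fs w u).toFinset := by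
      intro u hu u' hu' huu
      rw [Function.onFun, Finset.disjoint_left]
      intro v hv hv'
      rw [Set.mem_toFinset] at hv hv'
      have hwu := hne u hu
      have hwu' := hne u' hu'
      have e1 := (S.A_eq_of_fix hwu hv.1.symm hv.2).trans
        (S.A_eq_of_fix hwu' hv'.1.symm hv'.2).symm
      have e2 : A N u w = A N u u' :=
        S.A_eq_of_fix hwu.symm huu (S.fix_set_symm hwu fun b hb => (mem_A.1 (e1 ▸ hb)).2)
      refine hw (S.fix_of_fix_pair a.2 huu ?_ ?_ fun b hb => (mem_A.1 (e2 ▸ hb)).2)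
      · exact hΦ' u hu
      · exact hΦ' u' hu'
    have h1 : (Φ.biUnion fun u => (Fs w u).toFinset) ⊆ Finset.univ.erase w := by
      intro v hv
      obtain ⟨u, -, hv⟩ := Finset.mem_biUnion.1 hv
      exact Finset.mem_erase.2 ⟨(Set.mem_toFinset.1 hv).1, Finset.mem_univ _⟩
    have h2 := Finset.card_le_card h1
    rw [Finset.card_biUnion hdis, Finset.card_erase_of_mem (Finset.mem_univ _), Finset.card_univ,
      Finset.sum_congr rfl (fun u hu => (Set.ncard_eq_toFinset_card' _).symm.trans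
        (hfu w u (hne u hu))), Finset.sum_const, smul_eq_mul] at h2
    rwa [hΦ, ← Set.ncard_eq_toFinset_card'] at h2
  set v := Fintype.card X - 1 with hv
  have hcard := S.card_pairs x P fun w hw => S.card_A hxy hw.symm
  have hone : (Fx X ((1 : ↥(N x)) : G) \ {x}).ncard = v := by
    have : Fx X ((1 : ↥(N x)) : G) = Set.univ := Set.eq_univ_of_forall fun w => one_smul _ _
    rw [this, Set.ncard_sdiff_singleton_of_mem (Set.mem_univ x), Set.ncard_univ,
      Nat.card_eq_fintype_card]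
  rw [← Finset.add_sum_erase _ _ (Finset.mem_univ (1 : ↥(N x))), hone] at hcard
  set SS := ∑ a ∈ (Finset.univ : Finset ↥(N x)).erase 1, (Fx X (a : G) \ {x}).ncard with hS
  have hmain : (SS + (o * P - 1)) * f ≤ (o * P - 1) * v := by
    have hc : ((Finset.univ : Finset ↥(N x)).erase 1).card = o * P - 1 := by
      rw [Finset.card_erase_of_mem (Finset.mem_univ _), Finset.card_univ,
        ← Nat.card_eq_fintype_card, hm]
    calc (SS + (o * P - 1)) * f
        = ∑ a ∈ (Finset.univ : Finset ↥(N x)).erase 1, ((Fx X (a : G) \ {x}).ncard + 1) * f := by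
          rw [← hc, ← Finset.sum_mul, Finset.sum_add_distrib, ← hS, Finset.card_eq_sum_ones]
      _ ≤ ∑ a ∈ (Finset.univ : Finset ↥(N x)).erase 1, v := by
          refine Finset.sum_le_sum fun a ha => ?_
          rw [Set.ncard_sdiff_singleton_add_one (show x ∈ Fx X (a : G) from S.le x a a.2)]
          exact hbound a (Finset.mem_erase.1 ha).1
      _ = (o * P - 1) * v := by rw [Finset.sum_const, smul_eq_mul, hc]
  have hv0 : 0 < v := by
    have : 1 < Fintype.card X := Fintype.one_lt_card_iff.2 ⟨x, y, hxy⟩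
    omega
  have ho : 0 < o := (Set.ncard_pos).2 ⟨y, 1, one_mem _, one_smul _ _⟩
  obtain ⟨Q, hQ⟩ : ∃ Q, P = Q + 1 := ⟨P - 1, by omega⟩
  have hSS : SS = v * Q := by
    rw [hQ, mul_add, mul_one, ← hv] at hcard; omega
  rw [hSS] at hmain
  have h3 : v * Q * (2 * o) ≤ (o * P - 1) * v :=
    le_trans (le_trans (Nat.mul_le_mul_left _ hf2) (Nat.mul_le_mul_right f (Nat.le_add_right _ _)))
      hmain
  have h4 : Q * (2 * o) ≤ o * P - 1 := by
    refine Nat.le_of_mul_le_mul_left ?_ hv0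
    rw [← mul_assoc, mul_comm v (o * P - 1)]
    exact h3
  rw [hQ, mul_add, mul_one] at h4
  have h5 : Q * (2 * o) = 2 * (o * Q) := by ring
  have : 0 < Q := by omega
  nlinarith [h4, h5, ho, this, Nat.sub_add_cancel (show 1 ≤ o * Q + o by nlinarith)]

/-- A line is its first point and one orbit. -/
theorem T_eq_orb (hxy : x ≠ y) : T N x y = insert x (S.Orb x y) := by
  refine Set.Subset.antisymm (fun w hw => ?_)
    (Set.insert_subset (S.mem_T_left hxy) (S.orb_subset_T hxy))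
  rcases eq_or_ne w x with rfl | hwx
  · exact Set.mem_insert _ _
  · exact Set.mem_insert_of_mem _ (S.mem_orb_of_fix hxy hwx fun a ha =>
      S.fix_of_mem_T hw (Subgroup.mem_sup_left ha))

theorem mem_T_of_fix {z : X} (hxy : x ≠ y) (hz : ∀ a ∈ A N x y, a • z = z) : z ∈ T N x y := by
  rw [S.T_eq_orb hxy]
  rcases eq_or_ne z x with rfl | hzx
  · exact Set.mem_insert _ _
  · exact Set.mem_insert_of_mem _ (S.mem_orb_of_fix hxy hzx hz)

theorem exists_smul_eq {w : X} (hxy : x ≠ y) (hw : w ∈ T N x y) (hwx : w ≠ x) :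
    ∃ n ∈ N x, n • y = w := by
  rw [S.T_eq_orb hxy] at hw
  exact hw.resolve_left hwx

end Sys

end Cfsg.Agent.Lib.ONan64
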