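import Mathlib

/-!
The data of O'Nan's theorem: an equivariant family of elementary abelian subgroups of point
stabilisers, not semiregular; two of them meet trivially.
-/

set_option autoImplicit false
set_option linter.unusedSectionVars false

namespace Cfsg.Agent.Lib.ONan64

open MulAction

variable {G X : Type*} [Group G] [MulAction G X]

/-- The hypothesis, for elementary abelian groups. -/
structure Sys (N : X → Subgroup G) (p : ℕ) : Prop where
  prime : p.Prime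
  le : ∀ x, ∀ n ∈ N x, n • x = x
  conj : ∀ (g : G) (x : X), ∀ n ∈ N x, g * n * g⁻¹ ∈ N (g • x)
  comm : ∀ x, ∀ a ∈ N x, ∀ b ∈ N x, a * b = b * a
  expo : ∀ x, ∀ a ∈ N x, a ^ p = 1
  nsr : ∀ x y, x ≠ y → ∃ a ∈ N x, a ≠ 1 ∧ a • y = y
  h2 : ∀ a b c d : X, a ≠ b → c ≠ d → ∃ g : G, g • a = c ∧ g • b = d

variable (N : X → Subgroup G)

/-- The elements of `N x` fixing `y`. -/
def A (x y : X) : Subgroup G := N x ⊓ stabilizer G y

variable {N}

theorem mem_A {x y : X} {a : G} : a ∈ A N x y ↔ a ∈ N x ∧ a • y = y := by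
  simp [A, Subgroup.mem_inf, mem_stabilizer_iff]

namespace Sys

variable {p : ℕ} (S : Sys N p)
include S

theorem conj_iff (g : G) (x : X) (n : G) : g * n * g⁻¹ ∈ N (g • x) ↔ n ∈ N x := by
  refine ⟨fun h => ?_, S.conj g x n⟩
  have := S.conj g⁻¹ (g • x) _ h
  rw [inv_smul_smul] at this
  simpa [mul_assoc] using this

theorem conj_mem_of_fix {g : G} {x : X} (hg : g • x = x) {n : G} (hn : n ∈ N x) :
    g * n * g⁻¹ ∈ N x := by
  have := S.conj g x n hn
  rwa [hg] at this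

theorem card_N (h : ∀ x y : X, ∃ g : G, g • x = y) (x y : X) :
    Nat.card ↥(N x) = Nat.card ↥(N y) := by
  obtain ⟨g, rfl⟩ := h x y
  exact Nat.card_congr ((MulAut.conj g).toEquiv.subtypeEquiv fun n => (S.conj_iff g x n).symm)

theorem card_inf (g : G) (x y : X) :
    Nat.card ↥(N (g • x) ⊓ N (g • y)) = Nat.card ↥(N x ⊓ N y) :=
  (Nat.card_congr ((MulAut.conj g).toEquiv.subtypeEquiv fun n => by
    simp [Subgroup.mem_inf, MulAut.conj_apply, S.conj_iff])).symm

theorem conj_mem_A (g : G) (x y : X) (n : G) :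
    g * n * g⁻¹ ∈ A N (g • x) (g • y) ↔ n ∈ A N x y := by
  simp [mem_A, S.conj_iff, mul_smul]

theorem card_A_smul (g : G) (x y : X) :
    Nat.card ↥(A N (g • x) (g • y)) = Nat.card ↥(A N x y) :=
  (Nat.card_congr ((MulAut.conj g).toEquiv.subtypeEquiv fun n => by
    simpa [MulAut.conj_apply] using (S.conj_mem_A g x y n).symm)).symm

theorem card_A {x y u v : X} (hxy : x ≠ y) (huv : u ≠ v) :
    Nat.card ↥(A N u v) = Nat.card ↥(A N x y) := by
  obtain ⟨g, rfl, rfl⟩ := S.h2 x y u v hxy huv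
  exact S.card_A_smul g x y

theorem isPGroup (x : X) : IsPGroup p ↥(N x) := fun a =>
  ⟨1, by rw [pow_one]; exact Subtype.ext (by simpa using S.expo x a.1 a.2)⟩

variable [Finite G] [FaithfulSMul G X]

/-- Two of the groups meet trivially. -/
theorem inf_eq_bot {x y : X} (hxy : x ≠ y) : N x ⊓ N y = ⊥ := by
  by_contra hne
  set T : Set X := {w | N x ⊓ N y ≤ N w} with hT
  have hxT : x ∈ T := show N x ⊓ N y ≤ N x from inf_le_left
  have hyT : y ∈ T := show N x ⊓ N y ≤ N y from inf_le_right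
  have key : ∀ u v u' v' : X, u ≠ v → u' ≠ v' → N u ⊓ N v ≤ N u' → N u ⊓ N v ≤ N v' →
      N u ⊓ N v = N u' ⊓ N v' := by
    intro u v u' v' huv huv' h1 h2
    refine Subgroup.eq_of_le_of_card_ge (le_inf h1 h2) ?_
    obtain ⟨g, hu, hv⟩ := S.h2 u v u' v' huv huv'
    rw [← hu, ← hv, S.card_inf g u v]
  refine hne ((Subgroup.eq_bot_iff_forall _).2 fun d hd => ?_)
  refine FaithfulSMul.eq_of_smul_eq_smul (α := X) fun z => ?_
  rw [one_smul]
  by_cases hz : z ∈ T
  · exact S.le z d (hz hd)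
  by_contra hdz
  have move : ∀ u : X, u ∈ T → N u ⊓ N z ≤ N (d • z) := by
    intro u hu n hn
    have hdu : d ∈ N u := hu hd
    have h := S.conj d z n hn.2
    rwa [S.comm u d hdu n hn.1, mul_inv_cancel_right] at h
  have hne1 : z ≠ d • z := fun e => hdz e.symm
  have e1 := key x z z (d • z) (fun e => hz (e ▸ hxT)) hne1 inf_le_right (move x hxT)
  have e2 := key y z z (d • z) (fun e => hz (e ▸ hyT)) hne1 inf_le_right (move y hyT)
  have h1 : N x ⊓ N z ≤ N y := by
    rw [e1, ← e2]; exact inf_le_left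
  have e3 := key x z x y (fun e => hz (e ▸ hxT)) hxy inf_le_left h1
  refine hz ?_
  show N x ⊓ N y ≤ N z
  rw [← e3]; exact inf_le_right

theorem eq_one_of_mem {x y : X} (hxy : x ≠ y) {g : G} (hx : g ∈ N x) (hy : g ∈ N y) : g = 1 := by
  have h : g ∈ N x ⊓ N y := ⟨hx, hy⟩
  rwa [S.inf_eq_bot hxy, Subgroup.mem_bot] at h

theorem N_inj {x y : X} (h : N x = N y) : x = y := by
  by_contra hxy
  obtain ⟨a, ha, ha1, -⟩ := S.nsr x y hxy
  exact ha1 (S.eq_one_of_mem hxy ha (h ▸ ha))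

/-- An element of `N y` centralising a nontrivial element of `N x` fixes `x`. -/
theorem fix_of_commute {x y : X} {a m : G} (ha : a ∈ N x) (ha1 : a ≠ 1) (h : m * a = a * m) :
    m • x = x := by
  by_contra hm
  have h1 := S.conj m x a ha
  rw [h, mul_inv_cancel_right] at h1
  exact ha1 (S.eq_one_of_mem (Ne.symm hm) ha h1)

/-- The two small groups of a pair commute. -/
theorem A_comm {x y : X} (hxy : x ≠ y) {a b : G} (ha : a ∈ A N x y) (hb : b ∈ A N y x) :
    a * b = b * a := by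
  rw [mem_A] at ha hb
  have h1 : a * b * a⁻¹ * b⁻¹ ∈ N y := mul_mem (S.conj_mem_of_fix ha.2 hb.1) (inv_mem hb.1)
  have h2 : a * b * a⁻¹ * b⁻¹ ∈ N x := by
    rw [mul_assoc a b, mul_assoc a]
    exact mul_mem ha.1 (S.conj_mem_of_fix hb.2 (inv_mem ha.1))
  have h3 := S.eq_one_of_mem hxy h2 h1
  exact mul_inv_eq_iff_eq_mul.mp (mul_inv_eq_one.mp h3)

theorem exists_ne_one_A {x y : X} (hxy : x ≠ y) : ∃ a ∈ A N x y, a ≠ 1 := by
  obtain ⟨a, h1, h2, h3⟩ := S.nsr x y hxy
  exact ⟨a, mem_A.2 ⟨h1, h3⟩, h2⟩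

theorem one_lt_card_A {x y : X} (hxy : x ≠ y) : 1 < Nat.card ↥(A N x y) := by
  obtain ⟨a, h1, h2⟩ := S.exists_ne_one_A hxy
  haveI : Nontrivial ↥(A N x y) := ⟨⟨a, h1⟩, 1, fun e => h2 (congrArg Subtype.val e)⟩
  exact Finite.one_lt_card

end Sys

end Cfsg.Agent.Lib.ONan64
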