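import Cfsg.Agent.Lib.ONan64.Trans

/-!
Coordinates: the points are the projective space over the field of the translation spread.
-/

set_option autoImplicit false
set_option linter.unusedSectionVars false
set_option linter.style.haveILetI false

namespace Cfsg.Agent.Lib.ONan64

open MulAction
open scoped LinearAlgebra.Projectivization

universe u v

variable {G : Type u} {X : Type v} [Group G] [MulAction G X] {N : X → Subgroup G}

namespace Sys

variable {p : ℕ} (S : Sys N p) [Finite G] [Finite X] [FaithfulSMul G X] {x y : X}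
include S

theorem card_N_eq_translations {x0 w0 : X} {a0 : G} (R : Frame N x0 a0 w0) (hxy : x ≠ y) :
    Nat.card ↥(N x) = Nat.card ↥(S.translations R) := by
  classical
  haveI := Fintype.ofFinite X
  haveI := Fintype.ofFinite ↥(N x)
  set o := (S.Orb x y).ncard with ho
  set h := (Fx X a0).ncard with hh
  set Q := Nat.card ↥(S.translations R) with hQ
  set M := Nat.card ↥(N x) with hM
  set P := Nat.card ↥(A N x y) with hP
  obtain ⟨hQv, hQh⟩ := S.card_translations R hxy
  rw [← hh, ← hQ] at hQv
  rw [← hh, ← hQ, ← ho] at hQh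
  have hone : 1 < o := S.one_lt_orb hxy
  have hax : ∀ b : ↥(N x), b ≠ 1 → (Fx X (b : G)).ncard = h := by
    intro b hb
    obtain ⟨w, hw⟩ := S.exists_moved (fun e : (b : G) = 1 => hb (Subtype.ext e))
    obtain ⟨h1, h2⟩ := S.card_translations (⟨b.2, hw⟩ : Frame N x (b : G) w) hxy
    rw [← ho] at h2
    have h3 : (Fx X (b : G)).ncard * o = h * o := by omega
    exact Nat.eq_of_mul_eq_mul_right (by omega) h3
  have hpos : 0 < h := (Set.ncard_pos).2 ⟨x0, S.le x0 a0 R.mem⟩
  have hsum := S.card_pairs x P fun w hw => S.card_A hxy hw.symm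
  have hid : (Fx X ((1 : ↥(N x)) : G) \ {x}).ncard = Fintype.card X - 1 := by
    rw [show Fx X ((1 : ↥(N x)) : G) = Set.univ from Set.eq_univ_of_forall fun w => one_smul _ w,
      Set.ncard_sdiff_singleton_of_mem (Set.mem_univ x), Set.ncard_univ, Nat.card_eq_fintype_card]
  have hrest : ∀ b ∈ (Finset.univ : Finset ↥(N x)).erase 1,
      (Fx X (b : G) \ {x}).ncard = h - 1 := fun b hb => by
    rw [Set.ncard_sdiff_singleton_of_mem (show x ∈ Fx X (b : G) from S.le x b b.2),
      hax b (Finset.mem_erase.1 hb).1]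
  rw [← Finset.add_sum_erase _ _ (Finset.mem_univ (1 : ↥(N x))), hid,
    Finset.sum_congr rfl hrest, Finset.sum_const, Finset.card_erase_of_mem (Finset.mem_univ _),
    Finset.card_univ, smul_eq_mul] at hsum
  simp only [← Nat.card_eq_fintype_card, ← hM] at hsum
  have hv : Nat.card X - 1 = h * o := by omega
  rw [hv] at hsum
  have hmP : o * P = M := S.card_orb_mul x y
  rw [mul_assoc, hmP] at hsum
  have hM0 : 0 < M := Nat.card_pos
  obtain ⟨M', hM'⟩ : ∃ M', M = M' + 1 := ⟨M - 1, by omega⟩
  obtain ⟨h', hh'⟩ : ∃ h', h = h' + 1 := ⟨h - 1, by omega⟩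
  rw [hM', hh', Nat.add_sub_cancel, Nat.add_sub_cancel] at hsum
  rw [hh'] at hQh
  rw [hM']
  nlinarith [hsum, hQh]

/-- Coordinates and the elation family. -/
theorem exists_family (hF : FieldStmt.{u, v}) (hxy : x ≠ y) :
    ∃ (F : Type) (_ : Field F) (_ : Fintype F) (D : ℕ) (φ : X ≃ Pts F D),
      ElationFamily G X F D φ N := by
  classical
  obtain ⟨a0, ha0, ha1, -⟩ := S.nsr x y hxy
  obtain ⟨w0, hw0⟩ := S.exists_moved ha1
  let R : Frame N x a0 w0 := ⟨ha0, hw0⟩
  set H := Fx X a0 with hH
  letI := S.transComm R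
  obtain ⟨F, iF, iFF, iM, hcardF, hline⟩ := hF (Additive ↥(S.translations R)) ↥H (S.comp R) p
    (S.Orb x y).ncard (S.geomSpread R hxy)
  letI := iF
  letI := iFF
  letI := iM
  haveI : Module.Finite F (Additive ↥(S.translations R)) := Module.Finite.of_finite
  set D := Module.finrank F (Additive ↥(S.translations R)) with hD
  -- representatives
  have hrep : ∀ z : ↥H, ∃ e ∈ S.comp R z, e ≠ 0 := by
    intro z
    haveI : Nontrivial ↥(S.comp R z) := Finite.one_lt_card_iff_nontrivial.1
      (by rw [(S.geomSpread R hxy).card]; exact (S.geomSpread R hxy).one_lt)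
    obtain ⟨g, hg⟩ := exists_ne (0 : ↥(S.comp R z))
    exact ⟨g, g.2, fun e => hg (Subtype.ext e)⟩
  choose er her her0 using hrep
  have hmem : ∀ (z : ↥H) (g : Additive ↥(S.translations R)),
      g ∈ S.comp R z ↔ ∃ r : F, g = r • er z := fun z g => hline z _ (her z) (her0 z) g
  have htr : ∀ w : X, w ∉ H → ∃ g : Additive ↥(S.translations R),
      (Additive.toMul g).1 • w0 = w := fun w hw => by
    obtain ⟨g, hg, e⟩ := S.translations_trans R hw
    exact ⟨Additive.ofMul ⟨g, hg⟩, e⟩
  choose qt hqt using htr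
  have hq0 : ∀ (w : X) (hw : w ∉ H) (g : Additive ↥(S.translations R)),
      (Additive.toMul g).1 • w0 = w → g = qt w hw := fun w hw g hg =>
    Additive.toMul.injective (Subtype.ext (S.translations_inj R (Additive.toMul g).2
      (Additive.toMul (qt w hw)).2 R.moved (hg.trans (hqt w hw).symm)))
  let U : X → F × Additive ↥(S.translations R) := fun w =>
    if hw : w ∈ H then (0, er ⟨w, hw⟩) else (1, qt w hw)
  have Uin : ∀ (w : X) (hw : w ∈ H), U w = (0, er ⟨w, hw⟩) := fun w hw => dif_pos hw
  have Uout : ∀ (w : X) (hw : w ∉ H), U w = (1, qt w hw) := fun w hw => dif_neg hw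
  have Une : ∀ w, U w ≠ 0 := by
    intro w e
    by_cases hw : w ∈ H
    · rw [Uin w hw] at e; exact her0 _ (congrArg Prod.snd e)
    · rw [Uout w hw] at e; exact one_ne_zero (congrArg Prod.fst e)
  have Uinj : ∀ a b : X, ∀ r : F, U b = r • U a → b = a := by
    intro a b r e
    by_cases ha : a ∈ H <;> by_cases hb : b ∈ H
    · rw [Uin a ha, Uin b hb] at e
      have e2 : er ⟨b, hb⟩ = r • er ⟨a, ha⟩ := congrArg Prod.snd e
      exact congrArg Subtype.val ((S.geomSpread R hxy).inj ⟨b, hb⟩ ⟨a, ha⟩ _ (her _)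
        ((hmem _ _).2 ⟨r, e2⟩) (her0 _))
    · rw [Uin a ha, Uout b hb] at e
      exact (one_ne_zero ((congrArg Prod.fst e).trans (mul_zero r))).elim
    · rw [Uout a ha, Uin b hb] at e
      have hr : r = 0 := ((congrArg Prod.fst e).trans (mul_one r)).symm
      exact (her0 _ ((congrArg Prod.snd e).trans (by rw [hr]; exact zero_smul F _))).elim
    · rw [Uout a ha, Uout b hb] at e
      have hr : r = 1 := ((congrArg Prod.fst e).trans (mul_one r)).symm
      have e2 : qt b hb = qt a ha := (congrArg Prod.snd e).trans (by rw [hr]; exact one_smul F _)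
      rw [← hqt b hb, e2, hqt a ha]
  have Usurj : ∀ t : F × Additive ↥(S.translations R), t ≠ 0 →
      ∃ (w : X) (r : F), t = r • U w := by
    rintro ⟨t, g⟩ hne
    rcases eq_or_ne t 0 with rfl | ht
    · have hg : g ≠ 0 := fun e => hne (by rw [e]; rfl)
      obtain ⟨z, hz⟩ := (S.geomSpread R hxy).exists_mem g hg
      obtain ⟨r, hr⟩ := (hmem z g).1 hz
      refine ⟨z.1, r, ?_⟩
      rw [Uin z.1 z.2, Prod.smul_mk, smul_zero, hr]
    · set w : X := (Additive.toMul (t⁻¹ • g)).1 • w0 with hw'
      have hw : w ∉ H :=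
        S.smul_notMem (S.translations_fix R (Additive.toMul (t⁻¹ • g)).2) R.moved
      refine ⟨w, t, ?_⟩
      rw [Uout w hw, ← hq0 w hw (t⁻¹ • g) rfl, Prod.smul_mk, smul_eq_mul, mul_one, smul_smul,
        mul_inv_cancel₀ ht, one_smul]
  let J : X → X → X → Prop := fun a b c => ∃ r s : F, U c = r • U a + s • U b
  have Jcomm : ∀ a b c, J a b c → J b a c := fun a b c ⟨r, s, e⟩ =>
    ⟨s, r, by rw [e, add_comm]⟩
  -- lines through a point of the axis
  have mixed : ∀ a b, a ∈ H → b ∉ H → ∀ c, c ∈ T N a b ↔ J a b c := by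
    intro a b ha hb c
    have hab : a ≠ b := fun e => hb (e ▸ ha)
    constructor
    · intro hc
      rcases eq_or_ne c a with rfl | hca
      · exact ⟨1, 0, by rw [one_smul, zero_smul, add_zero]⟩
      obtain ⟨e, he, hec⟩ := S.El_trans R ha hb hc hca
      have hcH : c ∉ H := hec ▸ S.smul_notMem he.2 hb
      obtain ⟨r, hr⟩ := (hmem ⟨a, ha⟩ (Additive.ofMul ⟨e, S.El_le R ha he⟩)).1 he
      refine ⟨r, 1, ?_⟩
      rw [Uout c hcH, Uin a ha, Uout b hb, one_smul, Prod.smul_mk, smul_zero, Prod.mk_add_mk,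
        zero_add, ← hr]
      refine Prod.ext rfl ((hq0 c hcH _ ?_).symm)
      show (e * (Additive.toMul (qt b hb)).1) • w0 = c
      rw [mul_smul, hqt b hb, hec]
    · rintro ⟨r, s, e⟩
      rw [Uin a ha, Uout b hb, Prod.smul_mk, Prod.smul_mk, Prod.mk_add_mk, smul_zero, zero_add,
        smul_eq_mul, mul_one] at e
      by_cases hc : c ∈ H
      · have e1 : s = 0 := by rw [Uin c hc] at e; exact (congrArg Prod.fst e).symm
        have : c = a := Uinj a c r (by
          rw [e, e1, zero_smul, add_zero, Uin a ha, Prod.smul_mk, smul_zero])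
        rw [this]; exact S.mem_T_left hab
      · rw [Uout c hc] at e
        have e1 : s = 1 := (congrArg Prod.fst e).symm
        have e2 : qt c hc = r • er ⟨a, ha⟩ + qt b hb := by
          simpa [e1] using congrArg Prod.snd e
        have hk : r • er ⟨a, ha⟩ ∈ S.comp R ⟨a, ha⟩ := (hmem _ _).2 ⟨r, rfl⟩
        have := hqt c hc
        rw [e2, toMul_add, Subgroup.coe_mul, mul_smul, hqt b hb] at this
        rw [← this]
        exact S.El_smul_mem R ha hb hk
  have main : ∀ a b, a ≠ b → ∀ c, c ∈ T N a b ↔ J a b c := by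
    intro a b hab c
    by_cases ha : a ∈ H <;> by_cases hb : b ∈ H
    · constructor
      · intro hc
        have hcH := S.axis_closed R hab ha hb hc
        have h := S.comp_le_of_mem_T R (z1 := ⟨a, ha⟩) (z2 := ⟨b, hb⟩) (z := ⟨c, hcH⟩)
          (fun e => hab (congrArg Subtype.val e)) hc (her ⟨c, hcH⟩)
        obtain ⟨g1, h1, g2, h2, e⟩ := AddSubgroup.mem_sup.1 h
        obtain ⟨r, hr⟩ := (hmem _ _).1 h1
        obtain ⟨s, hs⟩ := (hmem _ _).1 h2
        refine ⟨r, s, ?_⟩
        rw [Uin c hcH, Uin a ha, Uin b hb, Prod.smul_mk, Prod.smul_mk, Prod.mk_add_mk, smul_zero,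
          smul_zero, add_zero, ← e, hr, hs]
      · rintro ⟨r, s, e⟩
        rw [Uin a ha, Uin b hb, Prod.smul_mk, Prod.smul_mk, Prod.mk_add_mk, smul_zero,
          smul_zero, add_zero] at e
        have hc : c ∈ H := by
          by_contra hc
          rw [Uout c hc] at e
          exact one_ne_zero (congrArg Prod.fst e)
        rw [Uin c hc] at e
        exact S.mem_T_of_le R (z1 := ⟨a, ha⟩) (z2 := ⟨b, hb⟩) (z := ⟨c, hc⟩)
          (fun e => hab (congrArg Subtype.val e)) (her _) (her0 _)
          (AddSubgroup.mem_sup.2 ⟨_, (hmem _ _).2 ⟨r, rfl⟩, _, (hmem _ _).2 ⟨s, rfl⟩,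
            (congrArg Prod.snd e).symm⟩)
    · exact mixed a b ha hb c
    · rw [S.T_comm hab, mixed b a hb ha c]
      exact ⟨Jcomm _ _ _, Jcomm _ _ _⟩
    · obtain ⟨z, hz, hz'⟩ := S.meet hab R.mem
      have hza : z ≠ a := fun e => ha (e ▸ hz')
      have hT : T N z a = T N a b := S.T_eq hab hz (S.mem_T_left hab) hza
      rw [← hT, mixed z a hz' ha c]
      obtain ⟨r, s, e⟩ := (mixed z a hz' ha b).1 (hT.symm ▸ S.mem_T_right hab)
      have hr : r ≠ 0 := fun h => hab (Uinj a b s (by rw [e, h, zero_smul, zero_add])).symm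
      constructor
      · rintro ⟨r', s', e'⟩
        refine ⟨s' - r' * r⁻¹ * s, r' * r⁻¹, ?_⟩
        rw [e', e, smul_add, smul_smul, smul_smul, sub_smul]
        rw [show r' * r⁻¹ * r = r' by rw [mul_assoc, inv_mul_cancel₀ hr, mul_one]]
        abel
      · rintro ⟨r', s', e'⟩
        refine ⟨s' * r, r' + s' * s, ?_⟩
        rw [e', e, smul_add, smul_smul, smul_smul, add_smul]
        abel
  -- the map to projective space
  let L : (F × Additive ↥(S.translations R)) ≃ₗ[F] (Fin (D + 1) → F) :=
    (LinearEquiv.prodCongr (LinearEquiv.refl F F)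
      (Module.finBasis F (Additive ↥(S.translations R))).equivFun).trans
      (Fin.consLinearEquiv F (fun _ : Fin (D + 1) => F))
  have Lne : ∀ w, L (U w) ≠ 0 := fun w e => Une w (L.map_eq_zero_iff.1 e)
  let ψ : X → Pts F D := fun w => Projectivization.mk F (L (U w)) (Lne w)
  have ψbij : Function.Bijective ψ := by
    constructor
    · intro a b e
      obtain ⟨r, hr⟩ := (Projectivization.mk_eq_mk_iff' F _ _ (Lne b) (Lne a)).1 e.symm
      exact (Uinj a b r (L.injective (by rw [map_smul]; exact hr.symm))).symm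
    · intro P
      obtain ⟨w, r, e⟩ := Usurj (L.symm P.rep)
        (fun h => P.rep_nonzero (L.symm.map_eq_zero_iff.1 h))
      refine ⟨w, ?_⟩
      conv_rhs => rw [← P.mk_rep]
      refine ((Projectivization.mk_eq_mk_iff' F _ _ P.rep_nonzero (Lne w)).2 ⟨r, ?_⟩).symm
      rw [← map_smul, ← e, L.apply_symm_apply]
  have hjoin : ∀ a b c, OnJoin (ψ a) (ψ b) (ψ c) ↔ J a b c := by
    intro a b c
    simp only [OnJoin, ψ, Projectivization.submodule_mk, Submodule.span_singleton_le_iff_mem,
      ← Submodule.span_insert, Submodule.mem_span_pair, J]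
    constructor
    · rintro ⟨r, s, e⟩
      exact ⟨r, s, L.injective (by rw [map_add, map_smul, map_smul]; exact e.symm)⟩
    · rintro ⟨r, s, e⟩
      exact ⟨r, s, by rw [← map_smul, ← map_smul, ← map_add, ← e]⟩
  let φ : X ≃ Pts F D := Equiv.ofBijective ψ ψbij
  have hline' : ∀ a b c, a ≠ b → (OnJoin (φ a) (φ b) (φ c) ↔ c ∈ T N a b) := fun a b c hab =>
    (hjoin a b c).trans (main a b hab c).symm
  have hdim : 2 ≤ D := by
    by_contra h
    push Not at h
    obtain ⟨z1, z2, h12⟩ := (S.geomSpread R hxy).two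
    have h1 : D ≤ 1 := by omega
    obtain ⟨v, hv⟩ := finrank_le_one_iff.1 (hD ▸ h1)
    obtain ⟨r, hr⟩ := hv (er z1)
    obtain ⟨s, hs⟩ := hv (er z2)
    have hr0 : r ≠ 0 := fun e => her0 z1 (by rw [← hr, e, zero_smul])
    exact h12 ((S.geomSpread R hxy).inj z1 z2 (er z1) (her z1)
      ((hmem _ _).2 ⟨r * s⁻¹, by
        have hs0 : s ≠ 0 := fun e => her0 z2 (by rw [← hs, e, zero_smul])
        rw [← hs, smul_smul, mul_assoc, inv_mul_cancel₀ hs0, mul_one, hr]⟩) (her0 z1))
  refine ⟨F, iF, iFF, D, φ, hdim, S.conj, ?_, ?_, ?_, ?_, fun a b h => S.N_inj h⟩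
  · intro z
    obtain ⟨z', hz'⟩ : ∃ z', z ≠ z' := by
      rcases eq_or_ne z x with rfl | h
      exacts [⟨y, hxy⟩, ⟨x, h⟩]
    rw [S.card_N_eq_translations R hz']
    rw [show Nat.card ↥(S.translations R) = Nat.card (Additive ↥(S.translations R)) from
      Nat.card_congr Additive.ofMul, Module.natCard_eq_pow_finrank (K := F),
      Nat.card_eq_fintype_card]
  · intro g a b c h
    rcases eq_or_ne a b with rfl | hab
    · obtain ⟨r, s, e⟩ := (hjoin a a c).1 h
      have hca : c = a := Uinj a c (r + s) (by rw [e, add_smul])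
      rw [hca]
      exact le_sup_left
    · exact (hline' _ _ _ fun e => hab (smul_left_cancel g e)).2
        (S.smul_mem_T g ((hline' a b c hab).1 h))
  · intro a n hn
    refine ⟨S.le a n hn, fun b => ?_⟩
    rcases eq_or_ne a b with rfl | hab
    · rw [S.le a n hn]; exact le_sup_left
    · exact (hline' a b _ hab).2 (S.smul_mem_line hab hn)
  · intro a n hn hn1
    let Us : Submodule F (Fin (D + 1) → F) :=
      { carrier := {t | ∀ ht : t ≠ 0,
          n • φ.symm (Projectivization.mk F t ht) = φ.symm (Projectivization.mk F t ht)}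
        zero_mem' := fun h => (h rfl).elim
        add_mem' := fun {t t'} h h' hs => by
          rcases eq_or_ne t 0 with rfl | ht
          · simpa using h' (by simpa using hs)
          rcases eq_or_ne t' 0 with rfl | ht'
          · simpa using h ht
          rcases eq_or_ne (φ.symm (Projectivization.mk F t ht))
            (φ.symm (Projectivization.mk F t' ht')) with e | e
          · obtain ⟨r, hr⟩ := (Projectivization.mk_eq_mk_iff' F t t' ht ht').1 (φ.symm.injective e)
            rw [(Projectivization.mk_eq_mk_iff' F (t + t') t' hs ht').2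
              ⟨r + 1, by rw [add_smul, hr, one_smul]⟩]
            exact h' ht'
          · refine S.fix_line hn e (h ht) (h' ht') ((hline' _ _ _ e).1 ?_)
            rw [OnJoin, φ.apply_symm_apply, φ.apply_symm_apply, φ.apply_symm_apply,
              Projectivization.submodule_mk, Projectivization.submodule_mk,
              Projectivization.submodule_mk, Submodule.span_singleton_le_iff_mem]
            exact add_mem (Submodule.mem_sup_left (Submodule.mem_span_singleton_self t))
              (Submodule.mem_sup_right (Submodule.mem_span_singleton_self t'))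
        smul_mem' := fun r {t} h hs => by
          have ht : t ≠ 0 := fun e => hs (by rw [e, smul_zero])
          rw [(Projectivization.mk_eq_mk_iff' F (r • t) t hs ht).2 ⟨r, rfl⟩]
          exact h ht }
    have hUs : ∀ b, n • b = b ↔ (φ b).rep ∈ Us := by
      intro b
      constructor
      · intro h hb
        rwa [Projectivization.mk_rep, φ.symm_apply_apply]
      · intro h
        have := h (φ b).rep_nonzero
        rwa [Projectivization.mk_rep, φ.symm_apply_apply] at this
    obtain ⟨b, hb⟩ := S.exists_moved hn1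
    have hlt : Us < ⊤ := lt_top_iff_ne_top.2 fun e => hb ((hUs b).2 (e ▸ Submodule.mem_top))
    obtain ⟨f, hf, hle⟩ := Submodule.exists_le_ker_of_lt_top Us hlt
    refine ⟨f, hf, fun c => ⟨fun h => hle ((hUs c).1 h), fun h => ?_⟩⟩
    by_contra hc
    refine hf (LinearMap.ext fun t => ?_)
    rw [LinearMap.zero_apply]
    rcases eq_or_ne t 0 with rfl | ht
    · exact map_zero f
    set d := φ.symm (Projectivization.mk F t ht) with hd
    by_cases hdn : n • d = d
    · exact hle (show t ∈ Us from fun ht' => hdn)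
    rcases eq_or_ne c d with rfl | hcd
    · obtain ⟨r, hr⟩ := (Projectivization.mk_eq_mk_iff' F t (φ (φ.symm (Projectivization.mk F t ht))).rep
        ht (Projectivization.rep_nonzero _)).1 (by rw [Projectivization.mk_rep, φ.apply_symm_apply])
      rw [← hr, map_smul, h, smul_zero]
    obtain ⟨q, hq, hq'⟩ := S.meet hcd hn
    have hqc : c ≠ q := fun e => hc (e ▸ hq')
    have hdl : d ∈ T N c q := by
      rw [S.T_eq hcd (S.mem_T_left hcd) hq hqc]; exact S.mem_T_right hcd
    have h2 := (hline' c q d hqc).2 hdl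
    rw [OnJoin, hd, φ.apply_symm_apply, Projectivization.submodule_mk,
      Submodule.span_singleton_le_iff_mem, Projectivization.submodule_eq,
      Projectivization.submodule_eq, ← Submodule.span_insert, Submodule.mem_span_pair] at h2
    obtain ⟨r, s, e⟩ := h2
    have h0 : f (φ q).rep = 0 := hle ((hUs q).1 hq')
    rw [← e, map_add, map_smul, map_smul, h, h0, smul_zero, smul_zero, add_zero]

end Sys

end Cfsg.Agent.Lib.ONan64
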