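import Cfsg.Agent.Lib.SpreadKernel35.Graphs
import Mathlib.Algebra.Module.Basic

/-!
A geometric spread with shears is the set of one-dimensional subspaces of a vector space over a
field of the order of its components: brick FIELD of O'Nan's theorem.
-/

set_option autoImplicit false

namespace Cfsg.Agent.Lib.ONan64

open Cfsg.Agent.Lib.SpreadKernel35

universe u v

namespace FieldProof

variable {V : Type u} [AddCommGroup V] {H : Type v} {E : H → AddSubgroup V}
  {p o : ℕ} {a : H} {F : Type} [Field F]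

/-- The scalar `t` on the base component. -/
abbrev sc (ι : F →+* AddMonoid.End ↥(E a)) (t : F) : ↥(E a) →+ ↥(E a) := ι t

variable (ι : F →+* AddMonoid.End ↥(E a))

theorem sc_mul (s t : F) : sc ι (s * t) = (sc ι s).comp (sc ι t) := by
  ext x
  show ((ι (s * t)) x : V) = _
  rw [map_mul]
  rfl

theorem sc_one : sc ι 1 = AddMonoidHom.id _ := map_one ι

theorem sc_zero : sc ι 0 = 0 := map_zero ι

theorem sc_comm (s t : F) (e : ↥(E a)) : sc ι s (sc ι t e) = sc ι t (sc ι s e) := by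
  show ((sc ι s).comp (sc ι t)) e = ((sc ι t).comp (sc ι s)) e
  rw [← sc_mul, ← sc_mul, mul_comm]

theorem sc_bijective {t : F} (ht : t ≠ 0) : Function.Bijective (sc ι t) := by
  refine Function.bijective_iff_has_inverse.2 ⟨sc ι t⁻¹, fun e => ?_, fun e => ?_⟩
  · show ((sc ι t⁻¹).comp (sc ι t)) e = e
    rw [← sc_mul, inv_mul_cancel₀ ht, sc_one]; rfl
  · show ((sc ι t).comp (sc ι t⁻¹)) e = e
    rw [← sc_mul, mul_inv_cancel₀ ht, sc_one]; rfl

/-- A parametrisation of a component by the base component compatible with the scalars. -/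
def Fr (μ : ↥(E a) →+ V) : Prop :=
  (∃ t : F, t ≠ 0 ∧ μ = (E a).subtype.comp (sc ι t)) ∨
    ∃ u, u ≠ a ∧ ∃ f : ↥(E a) →+ ↥(E u), IsL E f ∧ f ≠ 0 ∧ μ = (E u).subtype.comp f

variable [Finite V] (h : GeomSpread V E p o)

include h

theorem sc_surj [Fintype F] (hF : Fintype.card F = o) {e : ↥(E a)} (he : e ≠ 0) (x : ↥(E a)) :
    ∃ t : F, sc ι t e = x :=
  (eval_bijective ι (hF.trans (h.card a).symm) he).2 x

theorem isL_cast {u : H} (hua : u ≠ a) [Fintype F] (hF : Fintype.card F = o)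
    {μ₀ : ↥(E a) →+ ↥(E u)} (hμ₀ : IsL E μ₀) (hμ₀0 : μ₀ ≠ 0)
    (hin : ∀ t : F, IsL E (μ₀.comp (sc ι t))) {μ : ↥(E a) →+ ↥(E u)} (hμ : IsL E μ) :
    ∃ t : F, μ = μ₀.comp (sc ι t) := by
  obtain ⟨x, hx, hx0⟩ := nontrivial_comp h a
  have he : (⟨x, hx⟩ : ↥(E a)) ≠ 0 := fun e => hx0 (congrArg Subtype.val e)
  obtain ⟨e', he'⟩ := (bijective_of_isL h hua.symm hμ₀ hμ₀0).2 (μ ⟨x, hx⟩)
  obtain ⟨t, ht⟩ := sc_surj ι h hF he e'
  exact ⟨t, isL_ext h hua.symm hμ (hin t) he (by rw [← he', ← ht]; rfl)⟩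

theorem fr_inj {μ : ↥(E a) →+ V} (hμ : Fr ι μ) : Function.Injective μ := by
  rcases hμ with ⟨t, ht, rfl⟩ | ⟨u, hu, f, hf, hf0, rfl⟩
  · exact Subtype.val_injective.comp (sc_bijective ι ht).1
  · exact Subtype.val_injective.comp (bijective_of_isL h hu.symm hf hf0).1

theorem fr_range {μ : ↥(E a) →+ V} (hμ : Fr ι μ) :
    ∃ u, ∀ x : V, x ∈ E u ↔ ∃ e, μ e = x := by
  rcases hμ with ⟨t, ht, rfl⟩ | ⟨u, hu, f, hf, hf0, rfl⟩
  · refine ⟨a, fun x => ⟨fun hx => ?_, ?_⟩⟩
    · obtain ⟨e, he⟩ := (sc_bijective ι ht).2 ⟨x, hx⟩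
      exact ⟨e, congrArg Subtype.val he⟩
    · rintro ⟨e, rfl⟩; exact SetLike.coe_mem _
  · refine ⟨u, fun x => ⟨fun hx => ?_, ?_⟩⟩
    · obtain ⟨e, he⟩ := (bijective_of_isL h hu.symm hf hf0).2 ⟨x, hx⟩
      exact ⟨e, congrArg Subtype.val he⟩
    · rintro ⟨e, rfl⟩; exact SetLike.coe_mem _

/-- What is needed from the field: the maps out of the base component form lines over it. -/
structure Scal : Prop where
  isL_comp_sc : ∀ u, u ≠ a → ∀ f : ↥(E a) →+ ↥(E u), IsL E f → ∀ t : F, IsL E (f.comp (sc ι t))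
  exists_sc : ∀ u, u ≠ a → ∀ μ : ↥(E a) →+ ↥(E u), IsL E μ → μ ≠ 0 →
    ∀ f : ↥(E a) →+ ↥(E u), IsL E f → ∃ t : F, f = μ.comp (sc ι t)

variable {ι}

theorem fr_rel (hS : Scal ι) {μ ν : ↥(E a) →+ V} (hμ : Fr ι μ) (hν : Fr ι ν) {e e' : ↥(E a)}
    (he : μ e = ν e') (he0 : e ≠ 0) : ∃ t : F, t ≠ 0 ∧ ν = μ.comp (sc ι t) := by
  have hne : μ e ≠ 0 := fun h0 => he0 (fr_inj ι h hμ (h0.trans (map_zero μ).symm))
  rcases hμ with ⟨t, ht, rfl⟩ | ⟨u, hu, f, hf, hf0, rfl⟩ <;>
    rcases hν with ⟨t', ht', rfl⟩ | ⟨u', hu', f', hf', hf0', rfl⟩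
  · refine ⟨t⁻¹ * t', mul_ne_zero (inv_ne_zero ht) ht', ?_⟩
    rw [AddMonoidHom.comp_assoc, ← sc_mul, mul_inv_cancel_left₀ ht]
  · exact absurd (h.inj a u' ((E a).subtype.comp (sc ι t) e) (SetLike.coe_mem _)
      (by rw [he]; exact SetLike.coe_mem _) hne) hu'.symm
  · exact absurd (h.inj u a ((E u).subtype.comp f e) (SetLike.coe_mem _)
      (by rw [he]; exact SetLike.coe_mem _) hne) hu
  · obtain rfl := h.inj u u' ((E u).subtype.comp f e) (SetLike.coe_mem _)
      (by rw [he]; exact SetLike.coe_mem _) hne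
    obtain ⟨t, ht⟩ := hS.exists_sc u hu f hf hf0 f' hf'
    refine ⟨t, fun h0 => hf0' ?_, by rw [ht, AddMonoidHom.comp_assoc]⟩
    rw [ht, h0, sc_zero, AddMonoidHom.comp_zero]

theorem fr_exists [Fintype F] (hF : Fintype.card F = o) (hS : Scal ι) {e₀ : ↥(E a)} (he₀ : e₀ ≠ 0)
    (x : V) : ∃ μ e, Fr ι μ ∧ μ e = x := by
  by_cases hx : x = 0
  · refine ⟨(E a).subtype.comp (sc ι 1), 0, Or.inl ⟨1, one_ne_zero, rfl⟩, ?_⟩
    rw [map_zero, hx]
  obtain ⟨u, hu⟩ := h.exists_mem x hx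
  by_cases hua : u = a
  · subst hua
    refine ⟨(E u).subtype.comp (sc ι 1), ⟨x, hu⟩, Or.inl ⟨1, one_ne_zero, rfl⟩, ?_⟩
    rw [sc_one]; rfl
  · obtain ⟨f, hf, hfe⟩ := exists_isL h (Ne.symm hua) he₀ ⟨x, hu⟩
    refine ⟨(E u).subtype.comp f, e₀, Or.inr ⟨u, hua, f, hf, ?_, rfl⟩, congrArg Subtype.val hfe⟩
    rintro rfl
    exact hx (congrArg Subtype.val hfe).symm

theorem act_unique (hS : Scal ι) {μ ν : ↥(E a) →+ V} (hμ : Fr ι μ) (hν : Fr ι ν) (s : F)
    {e e' : ↥(E a)} (he : μ e = ν e') : μ (sc ι s e) = ν (sc ι s e') := by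
  by_cases he0 : e = 0
  · subst he0
    have : e' = 0 := fr_inj ι h hν (by rw [← he, map_zero, map_zero])
    subst this
    simp
  obtain ⟨t, -, rfl⟩ := fr_rel h hS hμ hν he he0
  have : e = sc ι t e' := fr_inj ι h hμ he
  rw [this]
  exact congrArg μ (sc_comm ι s t e')

/-- Combinations inside a plane through the base component. -/
theorem fr_plane (hS : Scal ι) {d : H} (hd : d ≠ a) (r : F) {φ : ↥(E a) →+ ↥(E d)}
    (hφ : IsL E φ) (hne : r ≠ 0 ∨ φ ≠ 0) :
    Fr ι ((E a).subtype.comp (sc ι r) + (E d).subtype.comp φ) := by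
  by_cases hr : r = 0
  · refine Or.inr ⟨d, hd, φ, hφ, hne.resolve_left (not_not.2 hr), ?_⟩
    rw [hr, sc_zero, AddMonoidHom.comp_zero, zero_add]
  set ψ := φ.comp (sc ι r⁻¹) with hψ
  have hψL : IsL E ψ := hS.isL_comp_sc d hd φ hφ _
  have hφψ : φ = ψ.comp (sc ι r) := by
    rw [hψ, AddMonoidHom.comp_assoc, ← sc_mul, inv_mul_cancel₀ hr, sc_one, AddMonoidHom.comp_id]
  by_cases hψ0 : ψ = 0
  · refine Or.inl ⟨r, hr, ?_⟩
    rw [hφψ, hψ0, AddMonoidHom.zero_comp, AddMonoidHom.comp_zero, add_zero]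
  obtain ⟨w, hw⟩ := id hψL
  have hwa := graph_ne_left h hd.symm hψ0 hw
  obtain ⟨i, hi⟩ := exists_iota hw
  have hiL := isL_iota h hd.symm hψL hψ0 hi
  refine Or.inr ⟨w, hwa, i.comp (sc ι r), hS.isL_comp_sc w hwa i hiL r, ?_, ?_⟩
  · intro h0
    obtain ⟨x, hx, hx0⟩ := nontrivial_comp h a
    have he : (⟨x, hx⟩ : ↥(E a)) ≠ 0 := fun e => hx0 (congrArg Subtype.val e)
    obtain ⟨b, hb⟩ := (sc_bijective ι hr).2 ⟨x, hx⟩
    have h1 : i (sc ι r b) = 0 := DFunLike.congr_fun h0 b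
    rw [hb] at h1
    have h2 := hi ⟨x, hx⟩
    rw [h1, AddSubgroup.coe_zero] at h2
    exact he (Subtype.ext (split_unique h hd.symm hx (zero_mem _) (ψ ⟨x, hx⟩).2 (zero_mem _)
      (by rw [add_zero]; exact h2.symm)).1)
  · refine AddMonoidHom.ext fun e => ?_
    show (sc ι r e : V) + (φ e : V) = (i (sc ι r e) : V)
    rw [hi, hφψ]
    rfl

/-- Additivity inside a plane through the base component. -/
theorem act_plane [Fintype F] (hF : Fintype.card F = o) (hS : Scal ι) {d : H} (hd : d ≠ a)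
    {e₀ : ↥(E a)} (he₀ : e₀ ≠ 0) (s : F) (g : V → V)
    (hg : ∀ μ e, Fr ι μ → g (μ e) = μ (sc ι s e)) {x y : V} (hx : x ∈ E a ⊔ E d)
    (hy : y ∈ E a ⊔ E d) : g (x + y) = g x + g y := by
  have key : ∀ x ∈ E a ⊔ E d, ∃ (r : F) (φ : ↥(E a) →+ ↥(E d)), IsL E φ ∧
      x = (sc ι r e₀ : V) + φ e₀ ∧ g x = (sc ι r (sc ι s e₀) : V) + φ (sc ι s e₀) := by
    intro x hx
    obtain ⟨b, hb, c, hc, rfl⟩ := AddSubgroup.mem_sup.1 hx
    obtain ⟨r, hr⟩ := sc_surj ι h hF he₀ ⟨b, hb⟩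
    obtain ⟨φ, hφ, hφe⟩ := exists_isL h hd.symm he₀ ⟨c, hc⟩
    refine ⟨r, φ, hφ, by rw [hr, hφe], ?_⟩
    by_cases hne : r ≠ 0 ∨ φ ≠ 0
    · have h1 := hg _ e₀ (fr_plane h hS hd r hφ hne)
      have h2 : ((E a).subtype.comp (sc ι r) + (E d).subtype.comp φ) e₀ = b + c := by
        show (sc ι r e₀ : V) + (φ e₀ : V) = b + c
        rw [hr, hφe]
      rw [h2] at h1
      exact h1
    · push Not at hne
      obtain ⟨rfl, rfl⟩ := hne
      have hb0 : b = 0 := by
        rw [sc_zero] at hr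
        exact (congrArg Subtype.val hr).symm
      have hc0 : c = 0 := (congrArg Subtype.val hφe).symm
      have h0 := hg _ (0 : ↥(E a)) (Or.inl ⟨1, one_ne_zero, rfl⟩)
      simp only [map_zero] at h0
      rw [hb0, hc0, add_zero, h0, sc_zero]
      simp
  obtain ⟨r, φ, hφ, rfl, hgx⟩ := key x hx
  obtain ⟨r', φ', hφ', rfl, hgy⟩ := key y hy
  rw [hgx, hgy]
  by_cases hne : r + r' ≠ 0 ∨ φ + φ' ≠ 0
  · have h1 := hg _ e₀ (fr_plane h hS hd (r + r') (isL_add h hd.symm hφ hφ') hne)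
    have h2 : ∀ e : ↥(E a), ((E a).subtype.comp (sc ι (r + r')) + (E d).subtype.comp (φ + φ')) e
        = (sc ι r e : V) + φ e + ((sc ι r' e : V) + φ' e) := fun e => by
      show ((ι (r + r')) e : V) + ((φ + φ') e : V) = _
      rw [map_add]
      show ((sc ι r e : V) + (sc ι r' e : V)) + ((φ e : V) + (φ' e : V)) = _
      abel
    rw [h2, h2] at h1
    exact h1
  · push Not at hne
    have hr' : r' = -r := eq_neg_of_add_eq_zero_right hne.1
    have hφ'' : φ' = -φ := eq_neg_of_add_eq_zero_right hne.2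
    have h0 := hg _ (0 : ↥(E a)) (Or.inl ⟨1, one_ne_zero, rfl⟩)
    simp only [map_zero] at h0
    have h3 : ∀ e : ↥(E a), (sc ι r e : V) + φ e + ((sc ι r' e : V) + φ' e) = 0 := fun e => by
      have h4 : sc ι r' e = -(sc ι r e) := by
        rw [hr']
        show (ι (-r)) e = _
        rw [map_neg]; rfl
      rw [h4, hφ'', AddMonoidHom.neg_apply, AddSubgroup.coe_neg, AddSubgroup.coe_neg]
      abel
    rw [h3, h3, h0]

theorem act_add [Fintype F] (hF : Fintype.card F = o) (hS : Scal ι) {e₀ : ↥(E a)} (he₀ : e₀ ≠ 0)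
    (s : F) (g : V → V) (hg : ∀ μ e, Fr ι μ → g (μ e) = μ (sc ι s e)) (x y : V) :
    g (x + y) = g x + g y := by
  by_cases hx : x = 0
  · have h0 := hg _ (0 : ↥(E a)) (Or.inl ⟨1, one_ne_zero, rfl⟩)
    simp only [map_zero] at h0
    rw [hx, zero_add, h0, zero_add]
  by_cases hy : y = 0
  · have h0 := hg _ (0 : ↥(E a)) (Or.inl ⟨1, one_ne_zero, rfl⟩)
    simp only [map_zero] at h0
    rw [hy, add_zero, h0, add_zero]
  obtain ⟨u, hu⟩ := h.exists_mem x hx
  obtain ⟨v, hv⟩ := h.exists_mem y hy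
  by_cases huv : u = v
  · subst huv
    obtain ⟨μ, e, hμ, rfl⟩ := fr_exists h hF hS he₀ x
    obtain ⟨u', hu'⟩ := fr_range ι h hμ
    obtain rfl := h.inj u u' _ hu ((hu' _).2 ⟨e, rfl⟩) hx
    obtain ⟨e', rfl⟩ := (hu' y).1 hv
    rw [← map_add, hg _ _ hμ, hg _ _ hμ, hg _ _ hμ, map_add, map_add]
  by_cases hua : u = a
  · subst hua
    exact act_plane h hF hS (Ne.symm huv) he₀ s g hg (le_sup_left (a := E u) (b := E v) hu)
      (le_sup_right (a := E u) (b := E v) hv)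
  by_cases hva : v = a
  · subst hva
    exact act_plane h hF hS hua he₀ s g hg (le_sup_right (a := E v) (b := E u) hu)
      (le_sup_left (a := E v) (b := E u) hv)
  by_cases hpl : E a ≤ E u ⊔ E v
  · have hsup : E a ⊔ E u = E u ⊔ E v := sup_eq h huv (Ne.symm hua) hpl le_sup_left
    exact act_plane h hF hS hua he₀ s g hg (le_sup_right (a := E a) (b := E u) hu)
      (hsup.symm ▸ (le_sup_right (a := E u) (b := E v) hv))
  obtain ⟨f, hf, hfe⟩ := exists_isL h (Ne.symm hua) he₀ ⟨x, hu⟩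
  have hxu : (⟨x, hu⟩ : ↥(E u)) ≠ 0 := fun e => hx (congrArg Subtype.val e)
  obtain ⟨θ, hθ, hθx⟩ := exists_isL h huv hxu ⟨y, hv⟩
  have hθ0 : θ ≠ 0 := by
    rintro rfl
    exact hy (congrArg Subtype.val hθx).symm
  have hf0 : f ≠ 0 := by
    rintro rfl
    exact hxu hfe.symm
  obtain ⟨w, hw⟩ := id hθ
  obtain ⟨i, hi⟩ := exists_iota hw
  have hiL := isL_iota h huv hθ hθ0 hi
  have hwle := graph_le hw
  have hwa : w ≠ a := by
    rintro rfl
    exact hpl hwle
  have hwu : w ≠ u := graph_ne_left h huv hθ0 hw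
  have hnv : ¬ E u ≤ E a ⊔ E v := by
    intro hle
    apply hpl
    rw [sup_eq h (Ne.symm hva) huv hle le_sup_right]
    exact le_sup_left
  have hnw : ¬ E u ≤ E a ⊔ E w := by
    intro hle
    apply hpl
    rw [← sup_eq h huv (Ne.symm hwu) le_sup_left hwle,
      sup_eq h (Ne.symm hwa) (Ne.symm hwu) hle le_sup_right]
    exact le_sup_left
  have hν := isL_comp h (Ne.symm hua) huv (Ne.symm hva) hnv hf hθ
  have hlam := isL_comp h (Ne.symm hua) (Ne.symm hwu) (Ne.symm hwa) hnw hf hiL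
  have hxe : (E u).subtype.comp f e₀ = x := congrArg Subtype.val hfe
  have hye : (E v).subtype.comp (θ.comp f) e₀ = y := by
    show (θ (f e₀) : V) = y
    rw [hfe, hθx]
  have hsum : ∀ e, (E w).subtype.comp (i.comp f) e =
      (E u).subtype.comp f e + (E v).subtype.comp (θ.comp f) e := fun e => hi (f e)
  have h1 := hg _ e₀ (Or.inr ⟨u, hua, f, hf, hf0, rfl⟩)
  have h2 := hg _ e₀ (Or.inr ⟨v, hva, θ.comp f, hν, fun h0 => hy (by
    rw [← hye, h0]; rfl), rfl⟩)
  have h3 := hg _ e₀ (Or.inr ⟨w, hwa, i.comp f, hlam, fun h0 => hxu (by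
    have h4 : (x : V) + y = 0 := by rw [← hxe, ← hye, ← hsum, h0]; rfl
    exact absurd (eq_zero_of_mem h huv hu (by rw [eq_neg_of_add_eq_zero_left h4]; exact neg_mem hv))
      hx), rfl⟩)
  rw [hxe] at h1
  rw [hye] at h2
  rw [hsum, hsum, hxe, hye, ← h1, ← h2] at h3
  exact h3

end FieldProof

open FieldProof

/-- Brick FIELD. -/
theorem field : FieldStmt.{u, v} := by
  intro V _ _ H _ E p o h
  haveI : Fact p.Prime := ⟨h.prime⟩
  obtain ⟨a, c, hac⟩ := h.two
  obtain ⟨x₀, hx₀, hx₀0⟩ := nontrivial_comp h a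
  set e₀ : ↥(E a) := ⟨x₀, hx₀⟩ with he₀def
  have he₀ : e₀ ≠ 0 := fun e => hx₀0 (congrArg Subtype.val e)
  obtain ⟨x₁, hx₁, hx₁0⟩ := nontrivial_comp h c
  obtain ⟨f₀, hf₀, hf₀e⟩ := exists_isL h hac he₀ ⟨x₁, hx₁⟩
  have hf₀0 : f₀ ≠ 0 := by
    rintro rfl
    exact hx₁0 (congrArg Subtype.val hf₀e).symm
  obtain ⟨g₀, hg₀, hgf, hfg⟩ := isL_inverse h hac hf₀ hf₀0
  let S : AddSubgroup (AddMonoid.End ↥(E a)) :=
    { carrier := {s | IsL E (f₀.comp s)}
      zero_mem' := by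
        show IsL E (f₀.comp (0 : ↥(E a) →+ ↥(E a)))
        rw [AddMonoidHom.comp_zero]; exact isL_zero a c
      add_mem' := fun {s t} hs ht => by
        show IsL E _
        convert isL_add h hac hs ht using 1
        exact AddMonoidHom.ext fun x => map_add f₀ _ _
      neg_mem' := fun {s} hs => by
        show IsL E _
        convert isL_neg h hac hs using 1
        exact AddMonoidHom.ext fun x => map_neg f₀ _ }
  let T : AddSubgroup (AddMonoid.End ↥(E a)) :=
    { carrier := {t | IsL E ((t : ↥(E a) →+ ↥(E a)).comp g₀)}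
      zero_mem' := by
        show IsL E ((0 : ↥(E a) →+ ↥(E a)).comp g₀)
        rw [AddMonoidHom.zero_comp]; exact isL_zero c a
      add_mem' := fun {s t} hs ht => by
        show IsL E _
        convert isL_add h hac.symm hs ht using 1
        exact AddMonoidHom.ext fun x => rfl
      neg_mem' := fun {s} hs => by
        show IsL E _
        convert isL_neg h hac.symm hs using 1
        exact AddMonoidHom.ext fun x => rfl }
  have hSmem : ∀ s : AddMonoid.End ↥(E a), s ∈ S ↔ IsL E (f₀.comp s) := fun s => Iff.rfl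
  have h1 : (1 : AddMonoid.End ↥(E a)) ∈ S := by
    show IsL E (f₀.comp (AddMonoidHom.id _))
    rw [AddMonoidHom.comp_id]; exact hf₀
  have hScard : Nat.card S = Nat.card ↥(E a) := by
    rw [h.card a, ← card_LG h hac]
    refine Nat.card_congr
      { toFun := fun s => ⟨f₀.comp s.1, s.2⟩
        invFun := fun f => ⟨g₀.comp f.1, ?_⟩
        left_inv := fun s => Subtype.ext (AddMonoidHom.ext fun e => hgf _)
        right_inv := fun f => Subtype.ext (AddMonoidHom.ext fun e => hfg _) }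
    show IsL E (f₀.comp (g₀.comp f.1))
    rw [show f₀.comp (g₀.comp f.1) = f.1 from AddMonoidHom.ext fun e => hfg _]
    exact f.2
  have hST : InvIn S T := by
    intro s hs hs0
    have hfs0 : f₀.comp (s : ↥(E a) →+ ↥(E a)) ≠ 0 := by
      intro h0
      apply hs0
      refine AddMonoidHom.ext fun e => ?_
      have := congrArg g₀ (DFunLike.congr_fun h0 e)
      change g₀ (f₀ ((s : ↥(E a) →+ ↥(E a)) e)) = g₀ 0 at this
      rw [hgf, map_zero] at this
      exact this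
    obtain ⟨k, hk, hkf, hfk⟩ := isL_inverse h hac hs hfs0
    refine ⟨k.comp f₀, ?_, ?_, ?_⟩
    · show IsL E ((k.comp f₀).comp g₀)
      rw [show (k.comp f₀).comp g₀ = k from AddMonoidHom.ext fun e => congrArg k (hfg e)]
      exact hk
    · refine AddMonoidHom.ext fun e => ?_
      show (s : ↥(E a) →+ ↥(E a)) (k (f₀ e)) = e
      apply (bijective_of_isL h hac hf₀ hf₀0).1
      exact hfk (f₀ e)
    · exact AddMonoidHom.ext fun e => hkf e
  have hTS : InvIn T S := by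
    intro t ht ht0
    have htg0 : (t : ↥(E a) →+ ↥(E a)).comp g₀ ≠ 0 := by
      intro h0
      apply ht0
      refine AddMonoidHom.ext fun e => ?_
      have := DFunLike.congr_fun h0 (f₀ e)
      change (t : ↥(E a) →+ ↥(E a)) (g₀ (f₀ e)) = 0 at this
      rw [hgf] at this
      exact this
    obtain ⟨f, hf, hft, htf⟩ := isL_inverse h hac.symm ht htg0
    refine ⟨g₀.comp f, ?_, ?_, ?_⟩
    · show IsL E (f₀.comp (g₀.comp f))
      rw [show f₀.comp (g₀.comp f) = f from AddMonoidHom.ext fun e => hfg _]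
      exact hf
    · exact AddMonoidHom.ext fun e => htf e
    · refine AddMonoidHom.ext fun e => ?_
      show g₀ (f ((t : ↥(E a) →+ ↥(E a)) e)) = e
      have h2 := hft (f₀ e)
      change f ((t : ↥(E a) →+ ↥(E a)) (g₀ (f₀ e))) = f₀ e at h2
      rw [hgf] at h2
      rw [h2, hgf]
  obtain ⟨F, iF, iFt, ι, hF, hι⟩ := exists_field p
    (fun x : ↥(E a) => Subtype.ext (h.expo (x : V))) (by rw [h.card]; exact h.one_lt)
    S T hScard h1 hST hTS
  have hFo : Fintype.card F = o := hF.trans (h.card a)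
  have hcL : ∀ t : F, IsL E (f₀.comp (sc ι t)) := fun t => (hSmem _).1 ((hι _).2 ⟨t, rfl⟩)
  -- the line property in a plane through `a` and `c`
  have hline : ∀ u, u ≠ a → ∃ μ₀ : ↥(E a) →+ ↥(E u), IsL E μ₀ ∧ μ₀ ≠ 0 ∧
      ∀ t : F, IsL E (μ₀.comp (sc ι t)) := by
    intro u hua
    by_cases huc : u = c
    · subst huc
      exact ⟨f₀, hf₀, hf₀0, hcL⟩
    by_cases hpl : E u ≤ E a ⊔ E c
    · obtain ⟨φ, hφ, hgr⟩ := isL_of_le h hac huc hpl
      have hφ0 : φ ≠ 0 := by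
        rintro rfl
        refine hua (eq_of_le h fun x hx => ?_)
        obtain ⟨e, rfl⟩ := (hgr x).1 hx
        simp
      obtain ⟨i, hi⟩ := exists_iota hgr
      obtain ⟨t₁, ht₁⟩ : ∃ t : F, φ = f₀.comp (sc ι t) :=
        isL_cast ι h hac.symm hFo hf₀ hf₀0 hcL hφ
      refine ⟨i, isL_iota h hac hφ hφ0 hi, fun h0 => hx₀0 ?_, fun t => ?_⟩
      · have h2 := hi e₀
        rw [h0, AddMonoidHom.zero_apply, AddSubgroup.coe_zero] at h2
        exact (split_unique h hac hx₀ (zero_mem _) (φ e₀).2 (zero_mem _)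
          (by rw [add_zero]; exact h2.symm)).1
      · refine isL_iota_comp h hac hφ hφ0 hi _ ?_
        by_cases ht : 1 + t = 0
        · refine Or.inl fun e => ?_
          rw [eq_neg_of_add_eq_zero_right ht]
          show (ι (-1)) e = -e
          rw [map_neg, map_one]; rfl
        · refine Or.inr ⟨sc ι (1 + t)⁻¹, fun e => ?_, ?_⟩
          · have h3 : sc ι ((1 + t) * (1 + t)⁻¹) e = e := by
              rw [mul_inv_cancel₀ ht, sc_one]; rfl
            refine Eq.trans ?_ h3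
            rw [add_mul, one_mul]
            show _ = (ι ((1 + t)⁻¹ + t * (1 + t)⁻¹)) e
            rw [map_add, map_mul]
            rfl
          · rw [ht₁, AddMonoidHom.comp_assoc, ← sc_mul, ← sc_mul]
            exact hcL _
    · obtain ⟨x, hx, hx0⟩ := nontrivial_comp h u
      obtain ⟨ψ, hψ, hψe⟩ := exists_isL h (Ne.symm huc)
        (e := f₀ e₀) (by rw [hf₀e]; exact fun e => hx₁0 (congrArg Subtype.val e)) ⟨x, hx⟩
      have hcnot : ¬ E c ≤ E a ⊔ E u := by
        intro hle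
        apply hpl
        rw [sup_eq h (Ne.symm hua) hac le_sup_left hle]
        exact le_sup_right
      have hψf : ∀ t : F, IsL E ((ψ.comp f₀).comp (sc ι t)) := fun t => by
        rw [AddMonoidHom.comp_assoc]
        exact isL_comp h hac (Ne.symm huc) (Ne.symm hua) hcnot (hcL t) hψ
      refine ⟨ψ.comp f₀, isL_comp h hac (Ne.symm huc) (Ne.symm hua) hcnot hf₀ hψ,
        fun h0 => hx0 ?_, hψf⟩
      have h2 := DFunLike.congr_fun h0 e₀
      rw [AddMonoidHom.comp_apply, hψe] at h2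
      exact congrArg Subtype.val h2
  have hS : Scal ι := by
    refine ⟨fun u hua f hf t => ?_, fun u hua μ hμ hμ0 f hf => ?_⟩
    · obtain ⟨μ₀, hm, hm0, hin⟩ := hline u hua
      obtain ⟨s, rfl⟩ := isL_cast ι h hua hFo hm hm0 hin hf
      rw [AddMonoidHom.comp_assoc, ← sc_mul]
      exact hin _
    · obtain ⟨μ₀, hm, hm0, hin⟩ := hline u hua
      obtain ⟨s, rfl⟩ := isL_cast ι h hua hFo hm hm0 hin hμ
      obtain ⟨s', rfl⟩ := isL_cast ι h hua hFo hm hm0 hin hf
      have hs : s ≠ 0 := by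
        rintro rfl
        exact hμ0 (by rw [sc_zero, AddMonoidHom.comp_zero])
      refine ⟨s⁻¹ * s', ?_⟩
      rw [AddMonoidHom.comp_assoc, ← sc_mul, mul_inv_cancel_left₀ hs]
  have hex := fun x : V => fr_exists (ι := ι) h hFo hS he₀ x
  choose frame par hfr hpar using hex
  let act : F → V → V := fun s x => frame x (sc ι s (par x))
  have hact : ∀ (s : F) μ e, Fr ι μ → act s (μ e) = μ (sc ι s e) := fun s μ e hμ =>
    act_unique h hS (hfr _) hμ s (hpar _)
  have hadd : ∀ s x y, act s (x + y) = act s x + act s y := fun s x y =>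
    act_add h hFo hS he₀ s (act s) (fun μ e hμ => hact s μ e hμ) x y
  let κ : F →+* AddMonoid.End V :=
    { toFun := fun s => AddMonoidHom.mk' (act s) (hadd s)
      map_one' := AddMonoidHom.ext fun x => by
        show frame x (sc ι 1 (par x)) = x
        rw [sc_one]; exact hpar x
      map_mul' := fun s t => AddMonoidHom.ext fun x => by
        show frame x (sc ι (s * t) (par x)) = act s (frame x (sc ι t (par x)))
        rw [hact s _ _ (hfr x), sc_mul]; rfl
      map_zero' := AddMonoidHom.ext fun x => by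
        show frame x (sc ι 0 (par x)) = 0
        rw [sc_zero, AddMonoidHom.zero_apply, map_zero]
      map_add' := fun s t => AddMonoidHom.ext fun x => by
        show frame x ((ι (s + t)) (par x)) = frame x (sc ι s (par x)) + frame x (sc ι t (par x))
        rw [map_add, ← map_add (frame x)]
        rfl }
  refine ⟨F, iF, iFt, Module.compHom V κ, hFo, fun z x hx hx0 y => ?_⟩
  obtain ⟨u, hu⟩ := fr_range ι h (hfr x)
  obtain rfl := h.inj z u x hx ((hu x).2 ⟨par x, hpar x⟩) hx0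
  have hpar0 : par x ≠ 0 := fun e => hx0 (by rw [← hpar x, e, map_zero])
  constructor
  · intro hy
    obtain ⟨e, rfl⟩ := (hu y).1 hy
    obtain ⟨r, hr⟩ := sc_surj ι h hFo hpar0 e
    refine ⟨r, ?_⟩
    show _ = frame x (sc ι r (par x))
    rw [hr]
  · rintro ⟨r, rfl⟩
    exact (hu _).2 ⟨_, rfl⟩

end Cfsg.Agent.Lib.ONan64
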