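import Cfsg.Agent.Lib.ONan64.Basic

/-!
Lines: the common fixed points `w` of `A x y ⊔ A y x` at which this group contains a whole small
group of `N w`. Every element of `N x` maps each line through `x` to itself.
-/

set_option autoImplicit false
set_option linter.unusedSectionVars false

namespace Cfsg.Agent.Lib.ONan64

open MulAction

variable {G X : Type*} [Group G] [MulAction G X]

/-- The group of a pair. -/
def W (N : X → Subgroup G) (x y : X) : Subgroup G := A N x y ⊔ A N y x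

/-- The line of a pair. -/
def T (N : X → Subgroup G) (x y : X) : Set X :=
  {w | W N x y ≤ stabilizer G w ∧ Nat.card ↥(A N x y) ≤ Nat.card ↥(N w ⊓ W N x y)}

variable {N : X → Subgroup G}

namespace Sys

variable {p : ℕ} (S : Sys N p) [Finite G] [FaithfulSMul G X] {x y : X}
include S

theorem fix_of_mem_T {a : G} {w : X} (hw : w ∈ T N x y) (ha : a ∈ W N x y) : a • w = w :=
  mem_stabilizer_iff.1 (hw.1 ha)

theorem card_W (hxy : x ≠ y) :
    Nat.card ↥(W N x y) = Nat.card ↥(A N x y) * Nat.card ↥(A N y x) := by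
  set f := MonoidHom.noncommCoprod (A N x y).subtype (A N y x).subtype
    (fun a b => S.A_comm hxy a.2 b.2) with hf
  have hr : f.range = W N x y := by
    refine le_antisymm ?_ (sup_le (fun a ha => ⟨(⟨a, ha⟩, 1), show a * 1 = a from mul_one a⟩)
      (fun b hb => ⟨(1, ⟨b, hb⟩), show 1 * b = b from one_mul b⟩))
    rintro _ ⟨⟨a, b⟩, rfl⟩
    exact mul_mem (Subgroup.mem_sup_left a.2) (Subgroup.mem_sup_right b.2)
  have hinj : Function.Injective f := by
    rw [injective_iff_map_eq_one]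
    rintro ⟨a, b⟩ h
    have h' : (a : G) * b = 1 := h
    have h1 : (a : G) ∈ N y := by
      rw [eq_inv_of_mul_eq_one_left h']; exact inv_mem (mem_A.1 b.2).1
    have ea := S.eq_one_of_mem hxy (mem_A.1 a.2).1 h1
    rw [ea, one_mul] at h'
    exact Prod.ext (Subtype.ext ea) (Subtype.ext h')
  rw [← hr, ← Nat.card_prod]
  exact (Nat.card_congr (MonoidHom.ofInjective hinj).toEquiv).symm

theorem W_le_stab_left : W N x y ≤ stabilizer G x :=
  sup_le (fun a ha => mem_stabilizer_iff.2 (S.le x a (mem_A.1 ha).1)) inf_le_right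

theorem mem_T_left (hxy : x ≠ y) : x ∈ T N x y :=
  ⟨S.W_le_stab_left,
    Subgroup.card_le_of_le (le_inf inf_le_left le_sup_left)⟩

theorem W_comm : W N x y = W N y x := sup_comm _ _

theorem T_comm (hxy : x ≠ y) : T N x y = T N y x := by
  ext w
  simp only [T, Set.mem_ofPred_eq, S.W_comm (x := x) (y := y), S.card_A hxy.symm hxy]

theorem mem_T_right (hxy : x ≠ y) : y ∈ T N x y := S.T_comm hxy ▸ S.mem_T_left hxy.symm

theorem inf_W_eq {u v : X} (hxy : x ≠ y) (hu : u ∈ T N x y) (hv : v ∈ T N x y) (huv : u ≠ v) :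
    N u ⊓ W N x y = A N u v := by
  refine Subgroup.eq_of_le_of_card_ge (fun a ha => mem_A.2 ⟨ha.1, S.fix_of_mem_T hv ha.2⟩) ?_
  rw [S.card_A hxy huv]
  exact hu.2

theorem A_le_W {u v : X} (hxy : x ≠ y) (hu : u ∈ T N x y) (hv : v ∈ T N x y) (huv : u ≠ v) :
    A N u v ≤ W N x y := S.inf_W_eq hxy hu hv huv ▸ inf_le_right

theorem W_eq {u v : X} (hxy : x ≠ y) (hu : u ∈ T N x y) (hv : v ∈ T N x y) (huv : u ≠ v) :
    W N u v = W N x y := by
  refine Subgroup.eq_of_le_of_card_ge (sup_le (S.A_le_W hxy hu hv huv)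
    (S.A_le_W hxy hv hu huv.symm)) ?_
  rw [S.card_W huv, S.card_W hxy, S.card_A hxy huv, S.card_A hxy.symm huv.symm]

theorem T_eq {u v : X} (hxy : x ≠ y) (hu : u ∈ T N x y) (hv : v ∈ T N x y) (huv : u ≠ v) :
    T N u v = T N x y := by
  ext w
  simp only [T, Set.mem_ofPred_eq, S.W_eq hxy hu hv huv, S.card_A hxy huv]

theorem smul_mem_T (g : G) {w : X} (hw : w ∈ T N x y) : g • w ∈ T N (g • x) (g • y) := by
  have hW : ∀ a, a ∈ W N (g • x) (g • y) → g⁻¹ * a * g ∈ W N x y := by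
    intro a ha
    have hsub : W N (g • x) (g • y) ≤ (W N x y).map (MulAut.conj g).toMonoidHom := by
      rw [W, W, Subgroup.map_sup]
      refine sup_le_sup (fun b hb => ?_) (fun b hb => ?_) <;>
      · refine ⟨g⁻¹ * b * g, ?_, by simp [MulAut.conj_apply, mul_assoc]⟩
        refine (S.conj_mem_A g _ _ _).1 ?_
        simpa [mul_assoc] using hb
    obtain ⟨b, hb, rfl⟩ := hsub ha
    simpa [MulAut.conj_apply, mul_assoc] using hb
  refine ⟨fun a ha => mem_stabilizer_iff.2 ?_, ?_⟩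
  · have h := S.fix_of_mem_T hw (hW a ha)
    rwa [mul_smul, mul_smul, inv_smul_eq_iff] at h
  · rw [S.card_A_smul]
    refine hw.2.trans ?_
    refine Nat.card_le_card_of_injective
      (fun a => (⟨g * a * g⁻¹, ⟨S.conj g w a a.2.1, ?_⟩⟩ : ↥(N (g • w) ⊓ W N (g • x) (g • y))))
      fun a b h => Subtype.ext (by simpa using congrArg Subtype.val h)
    have hsub : W N x y ≤ (W N (g • x) (g • y)).comap (MulAut.conj g).toMonoidHom := by
      refine sup_le ?_ ?_ <;> intro b hb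
      · exact Subgroup.mem_sup_left ((S.conj_mem_A g _ _ _).2 hb)
      · exact Subgroup.mem_sup_right ((S.conj_mem_A g _ _ _).2 hb)
    exact hsub a.2.2

/-- `τ a n`. -/
def tau (a n : G) : G := a * n * a⁻¹ * n⁻¹

theorem tau_mem {a n : G} (ha : a ∈ A N x y) (hn : n ∈ N y) : tau a n ∈ N y :=
  mul_mem (S.conj_mem_of_fix (mem_A.1 ha).2 hn) (inv_mem hn)

theorem tau_smul {a n : G} (ha : a ∈ A N x y) : (tau a n * n) • x = a • (n • x) := by
  rw [tau, inv_mul_cancel_right, mul_smul, mul_smul,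
    inv_smul_eq_iff.2 (S.le x a (mem_A.1 ha).1).symm]

theorem fix_iff_tau {a n : G} (ha : a ∈ A N x y) (hn : n ∈ N y) :
    a • (n • x) = n • x ↔ tau a n • x = x := by
  rw [← S.tau_smul ha, S.comm y _ (S.tau_mem ha hn) n hn, mul_smul, smul_left_cancel_iff]

/-- A nontrivial element of `A x y` fixing a point of the orbit drags the whole group with it. -/
theorem fix_all {a c n : G} (hxy : x ≠ y) (ha : a ∈ A N x y) (ha1 : a ≠ 1) (hc : c ∈ A N x y)
    (hn : n ∈ N y) (h : a • (n • x) = n • x) : c • (n • x) = n • x := by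
  have hbA : tau a n ∈ A N y x := mem_A.2 ⟨S.tau_mem ha hn, (S.fix_iff_tau ha hn).1 h⟩
  set b := tau a n with hb
  set γ := c * n * c⁻¹ with hγ
  have hγm : γ ∈ N y := S.conj_mem_of_fix (mem_A.1 hc).2 hn
  have e1 : a * n * a⁻¹ = b * n := by rw [hb, tau]; group
  have hac : a * c = c * a := S.comm x a (mem_A.1 ha).1 c (mem_A.1 hc).1
  have hcb : c * b * c⁻¹ = b := by rw [S.A_comm hxy hc hbA, mul_inv_cancel_right]
  have e2 : a * γ * a⁻¹ = b * γ := by
    calc a * γ * a⁻¹ = (a * c) * n * (a * c)⁻¹ := by rw [hγ]; group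
      _ = c * (a * n * a⁻¹) * c⁻¹ := by rw [hac]; group
      _ = (c * b * c⁻¹) * (c * n * c⁻¹) := by rw [e1]; group
      _ = b * γ := by rw [hcb, hγ]
  have e3 : a * (γ * n⁻¹) * a⁻¹ = γ * n⁻¹ := by
    calc a * (γ * n⁻¹) * a⁻¹ = (a * γ * a⁻¹) * (a * n * a⁻¹)⁻¹ := by group
      _ = b * (γ * n⁻¹) * b⁻¹ := by rw [e2, e1]; group
      _ = γ * n⁻¹ := by
        rw [S.comm y b (mem_A.1 hbA).1 _ (mul_mem hγm (inv_mem hn)), mul_inv_cancel_right]
  exact (S.fix_iff_tau hc hn).2
    (S.fix_of_commute (y := y) (mem_A.1 ha).1 ha1 (mul_inv_eq_iff_eq_mul.mp e3).symm)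

/-- A point of the orbit fixed by the small group is on the line. -/
theorem smul_mem_T_of_fix {n : G} (hxy : x ≠ y) (hn : n ∈ N y)
    (h : ∀ a ∈ A N x y, a • (n • x) = n • x) : n • x ∈ T N x y := by
  refine ⟨sup_le (fun a ha => mem_stabilizer_iff.2 (h a ha)) (fun b hb => ?_), ?_⟩
  · rw [mem_stabilizer_iff, ← mul_smul, S.comm y b (mem_A.1 hb).1 n hn, mul_smul, (mem_A.1 hb).2]
  · refine Nat.card_le_card_of_injective (fun a => (⟨n * a * n⁻¹, S.conj n x a (mem_A.1 a.2).1,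
      ?_⟩ : ↥(N (n • x) ⊓ W N x y))) fun a b e => Subtype.ext (by simpa using congrArg Subtype.val e)
    have e : n * (a : G) * n⁻¹ = (tau (a : G) n)⁻¹ * a := by rw [tau]; group
    rw [e]
    have h1 : tau (a : G) n ∈ A N y x :=
      mem_A.2 ⟨S.tau_mem a.2 hn, (S.fix_iff_tau a.2 hn).1 (h a a.2)⟩
    have h2 : tau (a : G) n ∈ W N x y := Subgroup.mem_sup_right h1
    exact (W N x y).mul_mem ((W N x y).inv_mem h2) (Subgroup.mem_sup_left a.2)

/-- The core step: the orbit of `x` under `N y` lies on the line. -/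
theorem fix_orbit (hxy : x ≠ y) {n : G} (hn : n ∈ N y) :
    ∀ a ∈ A N x y, a • (n • x) = n • x := by
  classical
  haveI : Fact p.Prime := ⟨S.prime⟩
  have hT' : ∀ r ∈ N y, (∀ a ∈ A N x y, a • (r • x) = r • x) → r • x ∈ T N x y :=
    fun r hr h => S.smul_mem_T_of_fix hxy hr h
  have htau : ∀ a ∈ A N x y, ∀ r ∈ N y, ∀ s ∈ N y, tau a (r * s) = tau a r * tau a s := by
    intro a ha r hr s hs
    have h1 := S.comm y r⁻¹ (inv_mem hr) _ (S.tau_mem ha hs)
    calc tau a (r * s) = (a * r * a⁻¹) * (tau a s * r⁻¹) := by simp [tau, mul_assoc]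
      _ = (a * r * a⁻¹) * (r⁻¹ * tau a s) := by rw [h1]
      _ = tau a r * tau a s := by simp [tau, mul_assoc]
  let R : Subgroup ↥(N y) :=
    { carrier := {r | ∀ a ∈ A N x y, tau a (r : G) • x = x}
      one_mem' := fun a _ => by simp [tau]
      mul_mem' := fun {r s} hr hs a ha => by
        show tau a ((r : G) * (s : G)) • x = x
        rw [htau a ha r r.2 s s.2, mul_smul, hs a ha, hr a ha]
      inv_mem' := fun {r} hr a ha => by
        show tau a ((r : G)⁻¹) • x = x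
        have h := htau a ha r r.2 _ (inv_mem r.2)
        rw [mul_inv_cancel, show tau a (1 : G) = 1 by simp [tau]] at h
        rw [eq_inv_of_mul_eq_one_right h.symm, inv_smul_eq_iff, hr a ha] }
  have hRiff : ∀ r : ↥(N y), r ∈ R ↔ ∀ a ∈ A N x y, a • ((r : G) • x) = (r : G) • x := fun r =>
    forall₂_congr fun a ha => (S.fix_iff_tau ha r.2).symm
  by_contra hcon
  have hcon' : (⟨n, hn⟩ : ↥(N y)) ∉ R := fun h => hcon ((hRiff _).1 h)
  let c : ↥(A N x y) → ↥(N y) → ↥(N y) := fun a r =>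
    ⟨(a : G) * r * (a : G)⁻¹, S.conj_mem_of_fix (mem_A.1 a.2).2 r.2⟩
  have hcR : ∀ a r, r ∈ R → c a r ∈ R := by
    intro a r hr
    rw [hRiff] at hr ⊢
    have e : (c a r : G) • x = (r : G) • x := by
      show ((a : G) * r * (a : G)⁻¹) • x = _
      rw [mul_smul, mul_smul, inv_smul_eq_iff.2 (S.le x a (mem_A.1 a.2).1).symm, hr a a.2]
    intro b hb
    rw [e, hr b hb]
  have hrel : ∀ a r s, QuotientGroup.leftRel R r s → QuotientGroup.leftRel R (c a r) (c a s) := by
    intro a r s h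
    rw [QuotientGroup.leftRel_apply] at h ⊢
    convert hcR a _ h using 1
    exact Subtype.ext (by simp [c, mul_assoc])
  letI : MulAction ↥(A N x y) (↥(N y) ⧸ R) :=
    { smul := fun a => Quotient.map' (c a) (hrel a)
      one_smul := fun q => Quotient.inductionOn' q fun r =>
        congrArg Quotient.mk'' (Subtype.ext (by simp [c]))
      mul_smul := fun a b q => Quotient.inductionOn' q fun r =>
        congrArg Quotient.mk'' (Subtype.ext (by simp [c, mul_assoc])) }
  have hP : IsPGroup p ↥(A N x y) := (S.isPGroup x).to_le inf_le_left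
  have hdvd : p ∣ Nat.card (↥(N y) ⧸ R) := by
    obtain ⟨k, hk⟩ := IsPGroup.index (G := ↥(N y)) (p := p) (S.isPGroup y) R
    rcases Nat.eq_zero_or_pos k with rfl | hk0
    · rw [pow_zero, Subgroup.index_eq_one] at hk
      exact (hcon' (hk ▸ Subgroup.mem_top _)).elim
    · rw [show Nat.card (↥(N y) ⧸ R) = p ^ k from hk]
      exact dvd_pow_self p hk0.ne'
  have h1fix : (QuotientGroup.mk 1 : ↥(N y) ⧸ R) ∈ fixedPoints ↥(A N x y) (↥(N y) ⧸ R) := fun a =>
    congrArg Quotient.mk'' (Subtype.ext (by simp [c]))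
  obtain ⟨q, hq, hq1⟩ := hP.exists_fixed_point_of_prime_dvd_card_of_fixed_point _ hdvd h1fix
  obtain ⟨m, rfl⟩ := QuotientGroup.mk_surjective q
  have hmR : m ∉ R := fun h => hq1 (by
    rw [eq_comm, QuotientGroup.eq]; simpa using h)
  obtain ⟨a, ha, hma⟩ : ∃ a ∈ A N x y, a • ((m : G) • x) ≠ (m : G) • x := by
    have := mt (hRiff m).2 hmR
    push Not at this
    exact this
  have htR : (⟨tau a m, S.tau_mem ha m.2⟩ : ↥(N y)) ∈ R := by
    have h := Quotient.exact' ((hq ⟨a, ha⟩).symm)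
    rw [QuotientGroup.leftRel_apply] at h
    convert h using 1
    refine Subtype.ext ?_
    show tau a m = (m : G)⁻¹ * (a * m * a⁻¹)
    rw [S.comm y _ (inv_mem m.2) _ (S.conj_mem_of_fix (mem_A.1 ha).2 m.2)]
    rfl
  set z := (m : G) • x with hz
  have hzy : z ≠ y := fun e => hxy (by
    rw [hz, smul_eq_iff_eq_inv_smul, inv_smul_eq_iff.2 (S.le y m m.2).symm] at e; exact e)
  have hzT : z ∉ T N x y := fun h => hma (S.fix_of_mem_T h (Subgroup.mem_sup_left ha))
  set t : G := tau a m with ht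
  have htT : t • x ∈ T N x y := hT' t (S.tau_mem ha m.2) ((hRiff ⟨t, _⟩).1 htR)
  have hzl : z ∈ T N z y := S.mem_T_left hzy
  have hyl : y ∈ T N z y := S.mem_T_right hzy
  have hz' : a • z ∈ T N z y := by
    have h := S.smul_mem_T (m : G) htT
    rw [S.le y m m.2, ← mul_smul, S.comm y m m.2 t (S.tau_mem ha m.2), S.tau_smul ha] at h
    exact h
  have hzz' : a • z ≠ z := hma
  have hxz : x ≠ z := fun e => hzT (e ▸ S.mem_T_left hxy)
  obtain ⟨d, hd, hdy⟩ : ∃ d ∈ A N x z, d • y ≠ y := by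
    by_contra h
    push Not at h
    have he : A N x z = A N x y := Subgroup.eq_of_le_of_card_ge
      (fun d hd => mem_A.2 ⟨(mem_A.1 hd).1, h d hd⟩) (S.card_A hxz hxy).le
    rw [← he] at ha
    exact hzz' (mem_A.1 ha).2
  have hdz' : d • (a • z) = a • z := by
    rw [← mul_smul, S.comm x d (mem_A.1 hd).1 a (mem_A.1 ha).1, mul_smul, (mem_A.1 hd).2]
  have hy' : d • y ∈ T N z y := by
    have hl : T N z (a • z) = T N z y := S.T_eq hzy hzl hz' (Ne.symm hzz')
    have h : d • y ∈ T N (d • z) (d • (a • z)) := S.smul_mem_T d (hl ▸ hyl)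
    rw [(mem_A.1 hd).2, hdz', hl] at h
    exact h
  have hB : A N y x ≤ A N y z := fun b hb => mem_A.2 ⟨(mem_A.1 hb).1, by
    rw [hz, ← mul_smul, S.comm y b (mem_A.1 hb).1 m m.2, mul_smul, (mem_A.1 hb).2]⟩
  have hy'T : d • y ∈ T N x y := by
    rw [S.T_comm hxy]
    refine S.smul_mem_T_of_fix hxy.symm (mem_A.1 hd).1 fun b hb => ?_
    exact S.fix_of_mem_T hy' (Subgroup.mem_sup_right (hB hb))
  have e1 := S.T_eq hxy hy'T (S.mem_T_right hxy) hdy
  have e2 := S.T_eq hzy hy' hyl hdy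
  rw [← e1, e2] at hzT
  exact hzT hzl

/-- Every element of `N x` maps each line through `x` to itself. -/
theorem smul_mem_line {x w : X} {n : G} (hxw : x ≠ w) (hn : n ∈ N x) :
    n • w ∈ T N x w := by
  rw [S.T_comm hxw]
  exact S.smul_mem_T_of_fix hxw.symm hn (S.fix_orbit hxw.symm hn)

theorem A_eq_of_mem_T {u v w : X} (hxy : x ≠ y) (hu : u ∈ T N x y) (hv : v ∈ T N x y)
    (hw : w ∈ T N x y) (huv : u ≠ v) (huw : u ≠ w) : A N u v = A N u w :=
  (S.inf_W_eq hxy hu hv huv).symm.trans (S.inf_W_eq hxy hu hw huw)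

end Sys

end Cfsg.Agent.Lib.ONan64
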