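import Mathlib
import Cfsg.Agent.Lib.ONan64.Spec
import Cfsg.Agent.Lib.LinGroup.Simple
import Cfsg.Agent.Lib.Components.Quasisimple
import Cfsg.Agent.Lib.Components.GenFitting

/-!
A faithful collineation group with full groups of elations for every centre has `PSL` as its
generalised Fitting subgroup.
-/

set_option autoImplicit false

namespace Cfsg.Agent.Lib.ONan64.ProjBrick

open Matrix
open scoped LinearAlgebra.Projectivization

universe u v

variable {F : Type} [Field F] {D : ℕ}

local notation "V" => (Fin (D + 1) → F)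
local notation "SLn" => Matrix.SpecialLinearGroup (Fin (D + 1)) F

theorem onJoin_iff {a b w : V} (ha : a ≠ 0) (hb : b ≠ 0) (hw : w ≠ 0) :
    OnJoin (Projectivization.mk F a ha) (Projectivization.mk F b hb)
      (Projectivization.mk F w hw) ↔ ∃ s t : F, s • a + t • b = w := by
  rw [OnJoin, Projectivization.submodule_mk, Projectivization.submodule_mk,
    Projectivization.submodule_mk, Submodule.span_singleton_le_iff_mem, ← Submodule.span_insert,
    Submodule.mem_span_pair]

theorem mk_smul_eq {v : V} (hv : v ≠ 0) {r : F} (h : r • v ≠ 0) :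
    Projectivization.mk F (r • v) h = Projectivization.mk F v hv :=
  (Projectivization.mk_eq_mk_iff' F _ _ h hv).2 ⟨r, rfl⟩

theorem mk_congr {v w : V} (hv : v ≠ 0) (hw : w ≠ 0) (h : v = w) :
    Projectivization.mk F v hv = Projectivization.mk F w hw := by
  subst h; rfl

/-- The image under an elation of a point off the line through the centre and a point whose image
is known. -/
theorem step {σ : Pts F D → Pts F D} (f : Module.Dual F V) {c : V} (hc : c ≠ 0) (hfc : f c = 0)
    (hcoll : ∀ a b p, OnJoin a b p → OnJoin (σ a) (σ b) (σ p))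
    (hfix : ∀ (v : V) (hv : v ≠ 0), f v = 0 →
      σ (Projectivization.mk F v hv) = Projectivization.mk F v hv)
    (hcen : ∀ y, OnJoin (Projectivization.mk F c hc) y (σ y))
    {a v : V} (ha : a ≠ 0) (hv : v ≠ 0) (hfa : f a ≠ 0) (hfv : f v = f a) {l : F}
    (hl : a + l • c ≠ 0) (hσ : σ (Projectivization.mk F a ha) = Projectivization.mk F (a + l • c) hl)
    (hind : ∀ s t : F, s • c + t • a ≠ v) (hl' : v + l • c ≠ 0) :
    σ (Projectivization.mk F v hv) = Projectivization.mk F (v + l • c) hl' := by
  have hu : v - a ≠ 0 := fun h => hind 0 1 (by rw [sub_eq_zero] at h; simp [h])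
  have h1 : OnJoin (Projectivization.mk F a ha) (Projectivization.mk F (v - a) hu)
      (Projectivization.mk F v hv) := (onJoin_iff ha hu hv).2 ⟨1, 1, by simp⟩
  have h2 := hcoll _ _ _ h1
  have h3 := hcen (Projectivization.mk F v hv)
  rw [hσ, hfix (v - a) hu (by rw [map_sub, hfv, sub_self]),
    ← Projectivization.mk_rep (σ (Projectivization.mk F v hv))] at h2
  rw [← Projectivization.mk_rep (σ (Projectivization.mk F v hv))] at h3
  obtain ⟨s, t, hst⟩ := (onJoin_iff _ _ _).1 h2
  obtain ⟨α, β, hab⟩ := (onJoin_iff _ _ _).1 h3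
  have heq : (s * l - α) • c + (s - t) • a + (t - β) • v = 0 := by
    have := hst.trans hab.symm
    rw [← sub_eq_zero] at this
    rw [← this]
    module
  have htb : t = β := by
    by_contra h
    have h' : t - β ≠ 0 := sub_ne_zero.2 h
    refine hind (-(t - β)⁻¹ * (s * l - α)) (-(t - β)⁻¹ * (s - t)) ?_
    calc (-(t - β)⁻¹ * (s * l - α)) • c + (-(t - β)⁻¹ * (s - t)) • a
        = (-(t - β)⁻¹) • ((s * l - α) • c + (s - t) • a) := by rw [smul_add, mul_smul, mul_smul]
      _ = (-(t - β)⁻¹) • (-((t - β) • v)) := by rw [eq_neg_of_add_eq_zero_left heq]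
      _ = v := by rw [neg_smul_neg, smul_smul, inv_mul_cancel₀ h', one_smul]
  rw [htb, sub_self, zero_smul, add_zero] at heq
  have hsb : s = β := by
    have := congrArg f heq
    simp only [map_add, map_smul, hfc, map_zero, smul_eq_mul, mul_zero, zero_add,
      mul_eq_zero, sub_eq_zero] at this
    exact this.resolve_right hfa
  rw [hsb, sub_self, zero_smul, add_zero, smul_eq_zero, sub_eq_zero] at heq
  have hα : β * l = α := heq.resolve_right hc
  have hw : β • (v + l • c) = (σ (Projectivization.mk F v hv)).rep := by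
    rw [← hab, ← hα]; module
  have hβ : β ≠ 0 := by
    intro h
    exact (σ (Projectivization.mk F v hv)).rep_nonzero (by rw [← hw, h, zero_smul])
  refine (Projectivization.mk_rep _).symm.trans ?_
  exact (Projectivization.mk_eq_mk_iff' F _ _ _ hl').2 ⟨β, hw⟩

/-- A collineation fixing a hyperplane pointwise and every line through a point of it is given by a
transvection. -/
theorem exists_tv (hD : 2 ≤ D) {σ : Pts F D → Pts F D} (hinj : Function.Injective σ)
    (f : Module.Dual F V) {c : V} (hc : c ≠ 0) (hfc : f c = 0) (hf : f ≠ 0)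
    (hcoll : ∀ a b p, OnJoin a b p → OnJoin (σ a) (σ b) (σ p))
    (hfix : ∀ (v : V) (hv : v ≠ 0), f v = 0 →
      σ (Projectivization.mk F v hv) = Projectivization.mk F v hv)
    (hcen : ∀ y, OnJoin (Projectivization.mk F c hc) y (σ y)) :
    ∃ g : Module.Dual F V, g c = 0 ∧ ∀ (v : V) (hv : v ≠ 0) (h : v + g v • c ≠ 0),
      σ (Projectivization.mk F v hv) = Projectivization.mk F (v + g v • c) h := by
  obtain ⟨a, hfa⟩ : ∃ a, f a ≠ 0 := by
    by_contra h
    push Not at h
    exact hf (LinearMap.ext h)
  have hne : ∀ v : V, f v ≠ 0 → v ≠ 0 := fun v h h0 => h (by rw [h0, map_zero])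
  have ha := hne a hfa
  have hne' : ∀ (v : V) (l : F), f v ≠ 0 → v + l • c ≠ 0 := fun v l h =>
    hne _ (by simpa [hfc] using h)
  obtain ⟨l, hσ⟩ : ∃ l : F, σ (Projectivization.mk F a ha) =
      Projectivization.mk F (a + l • c) (hne' a l hfa) := by
    have h3 := hcen (Projectivization.mk F a ha)
    rw [← Projectivization.mk_rep (σ (Projectivization.mk F a ha))] at h3
    obtain ⟨α, β, hab⟩ := (onJoin_iff _ _ _).1 h3
    have hrep := (σ (Projectivization.mk F a ha)).rep_nonzero
    have hβ : β ≠ 0 := by
      intro h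
      rw [h, zero_smul, add_zero] at hab
      have hα : α ≠ 0 := fun h' => hrep (by rw [← hab, h', zero_smul])
      have h4 : σ (Projectivization.mk F a ha) = σ (Projectivization.mk F c hc) := by
        rw [hfix c hc hfc, ← Projectivization.mk_rep (σ (Projectivization.mk F a ha))]
        exact (Projectivization.mk_eq_mk_iff' F _ _ _ hc).2 ⟨α, hab⟩
      obtain ⟨r, hr⟩ := (Projectivization.mk_eq_mk_iff' F _ _ ha hc).1 (hinj h4)
      exact hfa (by rw [← hr, map_smul, hfc, smul_zero])
    refine ⟨β⁻¹ * α, (Projectivization.mk_rep _).symm.trans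
      ((Projectivization.mk_eq_mk_iff' F _ _ _ _).2 ⟨β, ?_⟩)⟩
    rw [← hab, smul_add, smul_smul, mul_inv_cancel_left₀ hβ]
    exact add_comm _ _
  obtain ⟨u, hfu, hu⟩ : ∃ u : V, f u = 0 ∧ ∀ s : F, s • c ≠ u := by
    by_contra h
    push Not at h
    have hle : LinearMap.ker f ≤ Submodule.span F {c} := fun u hu =>
      Submodule.mem_span_singleton.2 (h u hu)
    have h1 := LinearMap.finrank_range_add_finrank_ker f
    have h2 := (Submodule.finrank_mono hle).trans_eq (finrank_span_singleton hc)
    have h3 : Module.finrank F (LinearMap.range f) ≤ 1 :=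
      (Submodule.finrank_le _).trans (Module.finrank_self F).le
    rw [Module.finrank_fin_fun] at h1
    omega
  have hmain : ∀ (v : V) (hfv : f v = f a),
      σ (Projectivization.mk F v (hne v (hfv ▸ hfa))) =
        Projectivization.mk F (v + l • c) (hne' v l (hfv ▸ hfa)) := by
    intro v hfv
    by_cases hind : ∀ s t : F, s • c + t • a ≠ v
    · exact step f hc hfc hcoll hfix hcen ha _ hfa hfv (hne' a l hfa) hσ hind _
    · have hfa' : f (a + u) = f a := by rw [map_add, hfu, add_zero]
      have hσ' := step f hc hfc hcoll hfix hcen ha (hne (a + u) (hfa'.symm ▸ hfa)) hfa hfa'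
        (hne' a l hfa) hσ (fun s t h => by
          have := congrArg f h
          simp only [map_add, map_smul, hfc, smul_eq_mul, mul_zero, zero_add, hfu, add_zero] at this
          have ht : t = 1 := (mul_eq_right₀ hfa).1 this
          rw [ht, one_smul] at h
          exact hu s (add_right_cancel (h.trans (add_comm a u)))) (hne' _ l (hfa'.symm ▸ hfa))
      refine step f hc hfc hcoll hfix hcen _ _ (hfa'.symm ▸ hfa) (hfv.trans hfa'.symm)
        (hne' _ l (hfa'.symm ▸ hfa)) hσ' ?_ _
      intro s t h
      push Not at hind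
      obtain ⟨s', t', h'⟩ := hind
      have e1 := congrArg f h
      have e2 := congrArg f h'
      simp only [map_add, map_smul, hfc, smul_eq_mul, mul_zero, zero_add, hfu, add_zero, hfv]
        at e1 e2
      rw [(mul_eq_right₀ hfa).1 e1, one_smul] at h
      rw [(mul_eq_right₀ hfa).1 e2, one_smul] at h'
      refine hu (s' - s) ?_
      rw [← h', ← sub_eq_zero] at h
      rw [sub_smul, ← sub_eq_zero, ← neg_eq_zero, ← h]
      abel
  refine ⟨(l / f a) • f, by simp [hfc], fun v hv h => ?_⟩
  by_cases hfv : f v = 0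
  · rw [hfix v hv hfv]
    exact mk_congr _ _ (by simp [hfv])
  · have hr : f a / f v ≠ 0 := div_ne_zero hfa hfv
    have hfv' : f ((f a / f v) • v) = f a := by rw [map_smul, smul_eq_mul, div_mul_cancel₀ _ hfv]
    rw [← mk_smul_eq hv (r := f a / f v) (hne _ (hfv'.symm ▸ hfa)), hmain _ hfv']
    refine (Projectivization.mk_eq_mk_iff' F _ _ _ h).2 ⟨f a / f v, ?_⟩
    rw [LinearMap.smul_apply, smul_eq_mul, smul_add, smul_smul]
    congr 2
    field_simp

/-- The element of `SL` of a transvection. -/
noncomputable def tvSL (g : Module.Dual F V) (c : V) (h : g c = 0) : SLn :=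
  ⟨LinearMap.toMatrix' (LinearMap.transvection g c), by
    rw [LinearMap.det_toMatrix', LinearMap.transvection.det, h, add_zero]⟩

theorem tvSL_mulVec (g : Module.Dual F V) (c : V) (h : g c = 0) (v : V) :
    (tvSL g c h : Matrix (Fin (D + 1)) (Fin (D + 1)) F) *ᵥ v = v + g v • c := by
  simp [tvSL, LinearMap.toMatrix'_mulVec, LinearMap.transvection.apply]

theorem smul_proj_vec (A : SLn) {v : V} (hv : v ≠ 0)
    (h : (A : Matrix (Fin (D + 1)) (Fin (D + 1)) F) *ᵥ v ≠ 0) :
    A • Projectivization.mk F v hv = Projectivization.mk F _ h := rfl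

/-- The permutations of projective space. -/
noncomputable def rho : SLn →* Equiv.Perm (Pts F D) :=
  MulAction.toPermHom SLn (Pts F D)

variable {G : Type u} {X : Type v} [Group G] [MulAction G X]

/-- The action read on projective space. -/
def psi (φ : X ≃ Pts F D) : G →* Equiv.Perm (Pts F D) :=
  φ.permCongrHom.toMonoidHom.comp (MulAction.toPermHom G X)

theorem psi_apply (φ : X ≃ Pts F D) (g : G) (p : Pts F D) :
    psi φ g p = φ (g • φ.symm p) := rfl

theorem psi_injective [FaithfulSMul G X] (φ : X ≃ Pts F D) :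
    Function.Injective (psi (G := G) φ) :=
  φ.permCongrHom.injective.comp MulAction.toPerm_injective

variable [Fintype F] {φ : X ≃ Pts F D} {N : X → Subgroup G}

theorem exists_psi_eq (h : ElationFamily G X F D φ N) (x : X) (n : G) (hn : n ∈ N x) :
    ∃ (g : Module.Dual F V) (hg : g (φ x).rep = 0), psi φ n = rho (tvSL g (φ x).rep hg) := by
  rcases eq_or_ne n 1 with rfl | hne
  · refine ⟨0, rfl, ?_⟩
    rw [map_one, eq_comm, ← map_one (rho (F := F) (D := D))]
    refine congrArg rho (Cfsg.Agent.Lib.LinGroup.SL_ext_mulVec fun w k => ?_)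
    rw [tvSL_mulVec]
    simp
  obtain ⟨f, hf, hax⟩ := h.axis x n hn hne
  obtain ⟨hnx, hcen⟩ := h.centre x n hn
  have hfix : ∀ (v : V) (hv : v ≠ 0), f v = 0 →
      psi φ n (Projectivization.mk F v hv) = Projectivization.mk F v hv := by
    intro v hv hfv
    obtain ⟨r, hr⟩ := (Projectivization.mk_eq_mk_iff' F _ _
      (Projectivization.mk F v hv).rep_nonzero hv).1 (Projectivization.mk_rep _)
    have := (hax (φ.symm (Projectivization.mk F v hv))).2
      (by rw [Equiv.apply_symm_apply, ← hr, map_smul, hfv, smul_zero])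
    rw [psi_apply, this, Equiv.apply_symm_apply]
  obtain ⟨g, hg, hσ⟩ := exists_tv h.dim (psi φ n).injective f (φ x).rep_nonzero
    ((hax x).1 hnx) hf (fun a b p habp => by
      simp only [psi_apply]
      exact h.coll n _ _ _ (by simpa using habp))
    hfix (fun y => by
      rw [psi_apply, Projectivization.mk_rep]
      simpa using hcen (φ.symm y))
  refine ⟨g, hg, Equiv.ext fun p => ?_⟩
  induction p using Projectivization.ind with
  | h v hv =>
    have hne' : (tvSL g (φ x).rep hg : Matrix (Fin (D + 1)) (Fin (D + 1)) F) *ᵥ v ≠ 0 := by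
      rw [tvSL_mulVec]
      intro h0
      have h1 := congrArg g h0
      simp only [map_add, map_smul, hg, smul_zero, add_zero, map_zero] at h1
      rw [h1, zero_smul, add_zero] at h0
      exact hv h0
    rw [hσ v hv (by rw [← tvSL_mulVec _ _ hg]; exact hne')]
    change _ = tvSL g (φ x).rep hg • Projectivization.mk F v hv
    rw [smul_proj_vec _ hv hne']
    exact mk_congr _ _ (tvSL_mulVec _ _ hg v).symm

theorem card_dual_eq_zero {c : V} (hc : c ≠ 0) :
    Nat.card {g : Module.Dual F V // g c = 0} = Fintype.card F ^ D := by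
  let e : Module.Dual F V →ₗ[F] F := Module.Dual.eval F V c
  have h1 := LinearMap.finrank_range_add_finrank_ker e
  have h2 : LinearMap.range e = ⊤ := by
    obtain ⟨i, hi⟩ := Function.ne_iff.1 hc
    refine LinearMap.range_eq_top.2 fun y => ⟨(y / c i) • LinearMap.proj i, ?_⟩
    simp [e, div_mul_cancel₀ _ (by simpa using hi : c i ≠ 0)]
  rw [h2, finrank_top, Module.finrank_self, Subspace.dual_finrank_eq, Module.finrank_fin_fun] at h1
  have h3 : Nat.card {g : Module.Dual F V // g c = 0} = Nat.card (LinearMap.ker e) := rfl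
  rw [h3, Module.natCard_eq_pow_finrank (K := F), Nat.card_eq_fintype_card]
  congr 1
  omega

theorem exists_mem_of_tv [FaithfulSMul G X] (h : ElationFamily G X F D φ N) (x : X)
    (g : Module.Dual F V) (hg : g (φ x).rep = 0) :
    ∃ n ∈ N x, psi φ n = rho (tvSL g (φ x).rep hg) := by
  have hch := fun n : N x => exists_psi_eq h x n.1 n.2
  choose a ha heq using hch
  let L : N x → {g : Module.Dual F V // g (φ x).rep = 0} := fun n => ⟨a n, ha n⟩
  have hL : Function.Injective L := fun n n' e => by
    refine Subtype.ext (psi_injective φ ?_)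
    rw [heq n, heq n']
    have e' : a n = a n' := congrArg Subtype.val e
    congr 2
  have : Finite (Module.Dual F V) := Module.finite_of_finite F
  have := hL.bijective_of_nat_card_le
    (by rw [h.card x, card_dual_eq_zero (φ x).rep_nonzero])
  obtain ⟨n, hn⟩ := this.2 ⟨g, hg⟩
  refine ⟨n.1, n.2, ?_⟩
  rw [heq n]
  have e' : a n = g := congrArg Subtype.val hn
  congr 2

theorem map_psi_eq [FaithfulSMul G X] (h : ElationFamily G X F D φ N) :
    (⨆ x, N x).map (psi φ) = (rho (F := F) (D := D)).range := by
  refine le_antisymm ?_ ?_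
  · rw [Subgroup.map_iSup]
    refine iSup_le fun x => ?_
    rintro _ ⟨n, hn, rfl⟩
    obtain ⟨g, hg, he⟩ := exists_psi_eq h x n hn
    exact ⟨_, he.symm⟩
  · have htop : ((⨆ x, N x).map (psi φ)).comap (rho (F := F) (D := D)) = ⊤ := by
      refine Cfsg.Agent.Lib.LinGroup.eq_top_of_transvection_mem _ fun i j hij r => ?_
      have he : (Pi.single i (1 : F) : V) ≠ 0 := Pi.single_ne_zero_iff.2 one_ne_zero
      let x := φ.symm (Projectivization.mk F (Pi.single i (1 : F) : V) he)
      obtain ⟨s, hs⟩ := (Projectivization.mk_eq_mk_iff' F _ _ (φ x).rep_nonzero he).1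
        ((Projectivization.mk_rep _).trans (φ.apply_symm_apply _))
      have hs0 : s ≠ 0 := fun h0 => (φ x).rep_nonzero (by rw [← hs, h0, zero_smul])
      have hg : ((r / s) • LinearMap.proj j : Module.Dual F V) (φ x).rep = 0 := by
        simp [← hs, hij.symm]
      obtain ⟨n, hn, hne⟩ := exists_mem_of_tv h x _ hg
      refine ⟨n, Subgroup.mem_iSup_of_mem x hn, hne.trans (congrArg rho ?_)⟩
      refine Cfsg.Agent.Lib.LinGroup.SL_ext_mulVec fun w k => ?_
      rw [tvSL_mulVec, Cfsg.Agent.Lib.LinGroup.coe_transvection,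
        Cfsg.Agent.Lib.LinGroup.transvection_mulVec_apply, ← hs]
      by_cases hk : k = i
      · subst hk
        simp
        field_simp
      · simp [hk]
    rintro _ ⟨A, rfl⟩
    exact (Subgroup.mem_comap.1 (htop ▸ Subgroup.mem_top A))

theorem normal_iSup (h : ElationFamily G X F D φ N) : (⨆ x, N x).Normal := by
  refine ⟨fun m hm g => ?_⟩
  have : (⨆ x, N x) ≤ (⨆ x, N x).comap (MulAut.conj g).toMonoidHom :=
    iSup_le fun x n hn => Subgroup.mem_iSup_of_mem (g • x) (h.conj g x n hn)
  exact this hm

theorem centralizer_iSup [Finite G] [FaithfulSMul G X] (h : ElationFamily G X F D φ N) :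
    Subgroup.centralizer ((⨆ x, N x : Subgroup G) : Set G) = ⊥ := by
  refine eq_bot_iff.2 fun g hg => ?_
  rw [Subgroup.mem_bot]
  refine eq_of_smul_eq_smul fun x : X => ?_
  rw [one_smul]
  refine h.ti _ _ (Eq.symm ?_)
  refine Subgroup.eq_of_le_of_card_ge (fun n hn => ?_) ((h.card _).trans (h.card x).symm).le
  have h1 := h.conj g x n hn
  have h2 : g * n * g⁻¹ = n := by
    rw [← Subgroup.mem_centralizer_iff.1 hg n (Subgroup.mem_iSup_of_mem x hn), mul_inv_cancel_right]
  rwa [h2] at h1

omit [Fintype F] in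
theorem psl_quasisimple (hD : 2 ≤ D) :
    Cfsg.IsQuasisimple (Matrix.ProjectiveSpecialLinearGroup (Fin (D + 1)) F) := by
  have hS := Cfsg.Agent.Lib.LinGroup.isSimpleGroup_PSL (F := F) (ι := Fin (D + 1))
    (by simp; omega)
  have : Nontrivial (Matrix.ProjectiveSpecialLinearGroup (Fin (D + 1)) F) := hS.toNontrivial
  refine Cfsg.Agent.Lib.Components.quasisimple_of_forall_normal
    ⟨Cfsg.Agent.Lib.LinGroup.commutator_PSL_eq_top_of_commutator_SL
      (Cfsg.Agent.Lib.LinGroup.commutator_SL_eq_top (by simp; omega))⟩ fun M hM hne => ?_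
  rw [(hS.eq_bot_or_eq_top_of_normal M hM).resolve_right hne]
  exact bot_le

end Cfsg.Agent.Lib.ONan64.ProjBrick

namespace Cfsg.Agent.Lib.ONan64

universe u v

open ProjBrick in
/-- Brick PROJ. -/
theorem proj : ProjStmt.{u, v} := by
  intro G X _ _ _ _ F _ _ D φ N h
  set M : Subgroup G := ⨆ x, N x
  have e0 : ↥M ≃* ↥(M.map (psi φ)) :=
    M.equivMapOfInjective _ (psi_injective φ)
  have e1 : ↥M ≃* Matrix.ProjectiveSpecialLinearGroup (Fin (D + 1)) F :=
    (e0.trans (MulEquiv.subgroupCongr (map_psi_eq h))).trans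
      ((QuotientGroup.quotientKerEquivRange rho).symm.trans
        (QuotientGroup.quotientMulEquivOfEq Projectivization.SL_mulAction_ker))
  have hn : M.Normal := normal_iSup h
  have hq : Cfsg.IsQuasisimple ↥M :=
    Components.quasisimple_of_mulEquiv e1.symm (psl_quasisimple h.dim)
  have hc : Subgroup.centralizer (M : Set G) ≤ M := (centralizer_iSup h).le.trans bot_le
  have hK : Cfsg.IsComponent M := ⟨hn.isSubnormal, hq⟩
  have hF : Cfsg.generalizedFittingSubgroup G = M := by
    refine le_antisymm (sup_le (Components.layer_le_iff.2 fun C hC => ?_) ?_)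
      ((Components.isComponent_le_layer hK).trans le_sup_left)
    · by_cases hC' : C = M
      · exact hC'.le
      · exact (Components.isComponent_le_centralizer hC hK hC').trans hc
    · refine le_trans ?_ hc
      exact Subgroup.le_centralizer_iff.1 ((Components.isComponent_le_layer hK).trans
        Components.layer_le_centralizer_fittingSubgroup)
  exact ⟨(MulEquiv.subgroupCongr hF).trans e1⟩

end Cfsg.Agent.Lib.ONan64
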