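import Cfsg.Agent.Lib.ONan64.Axes

/-!
The projective space: small groups are transitive on the other lines through their centre, every
line meets every axis, the Veblen property, and elations.
-/

set_option autoImplicit false
set_option linter.unusedSectionVars false

namespace Cfsg.Agent.Lib.ONan64

open MulAction

variable {G X : Type*} [Group G] [MulAction G X] {N : X → Subgroup G}

namespace Sys

variable {p : ℕ} (S : Sys N p) [Finite G] [Finite X] [FaithfulSMul G X] {x y : X}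
include S

theorem smul_N {g : G} {u v : X} (h : g • u = v) (n : G) (hn : n ∈ N u) : g * n * g⁻¹ ∈ N v :=
  h ▸ S.conj g u n hn

theorem card_N_eq {u v : X} (hxy : x ≠ y) (huv : u ≠ v) :
    Nat.card ↥(N u) = Nat.card ↥(N x) := by
  obtain ⟨g, rfl, -⟩ := S.h2 x y u v hxy huv
  exact (Nat.card_congr ((MulAut.conj g).toEquiv.subtypeEquiv fun n =>
    (S.conj_iff g x n).symm)).symm

theorem card_orb {u v : X} (hxy : x ≠ y) (huv : u ≠ v) :
    (S.Orb u v).ncard = (S.Orb x y).ncard := by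
  have h1 := S.card_orb_mul u v
  rw [S.card_A hxy huv, S.card_N_eq hxy huv, ← S.card_orb_mul x y] at h1
  exact Nat.eq_of_mul_eq_mul_right Nat.card_pos h1

theorem card_T (hxy : x ≠ y) : (T N x y).ncard = (S.Orb x y).ncard + 1 := by
  rw [S.T_eq_orb hxy, Set.ncard_insert_of_notMem fun h => S.orb_ne_left hxy h rfl]

theorem one_lt_orb (hxy : x ≠ y) : 1 < (S.Orb x y).ncard := by
  rw [Set.one_lt_ncard]
  obtain ⟨n, hn, hny⟩ := S.exists_moving hxy.symm
  exact ⟨y, ⟨1, one_mem _, one_smul _ _⟩, n • y, ⟨n, hn, rfl⟩, Ne.symm hny⟩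

theorem mem_T_trans {u v w : X} (huv : u ≠ v) (hw : w ∈ T N u v) (hwu : w ≠ u) :
    v ∈ T N u w :=
  (S.T_eq huv (S.mem_T_left huv) hw hwu.symm).symm ▸ S.mem_T_right huv

/-- `A x y` is transitive on every other line through `x`. -/
theorem trans {z z' : X} (hxy : x ≠ y) (hxz : x ≠ z) (hz : z ∉ T N x y) (hz' : z' ∈ T N x z)
    (hz'x : z' ≠ x) : ∃ a ∈ A N x y, a • z = z' := by
  classical
  obtain ⟨a, ha, haz⟩ : ∃ a ∈ A N x y, a • z ≠ z := by
    by_contra h
    push Not at h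
    exact hz (S.mem_T_of_fix hxy h)
  have ha1 : a ≠ 1 := fun e => haz (by rw [e, one_smul])
  obtain ⟨n0, hn0, hn0x⟩ := S.exists_moving hxy
  let θ : ↥(A N x y) → ↥(A N y x) := fun b => ⟨tau (b : G) n0, S.tau_mem_A hxy b.2 hn0⟩
  have hθ : Function.Bijective θ := Function.Injective.bijective_of_nat_card_le
    (fun b c e => Subtype.ext (S.tau_injOn hxy b.2 c.2 hn0 hn0x (congrArg Subtype.val e)))
    (S.card_A hxy hxy.symm).le
  have hc : ∀ q : ↥(S.Orb y x), ∃ n ∈ N y, n • x = q.1 := fun q => q.2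
  choose nq hnq hnqx using hc
  choose c hcθ using fun q : ↥(S.Orb y x) => hθ.2 ⟨tau a (nq q), S.tau_mem_A hxy ha (hnq q)⟩
  have hc' : ∀ q, tau (c q : G) n0 = tau a (nq q) := fun q => congrArg Subtype.val (hcθ q)
  have hmaps : ∀ q, (c q : G) • z ∈ S.Orb x z := fun q => ⟨c q, (mem_A.1 (c q).2).1, rfl⟩
  let Φ : ↥(S.Orb y x) → ↥(S.Orb x z) := fun q => ⟨(c q : G) • z, hmaps q⟩
  have hinj : Function.Injective Φ := by
    intro q r h
    by_contra hqr
    have h' : (c q : G) • z = (c r : G) • z := congrArg Subtype.val h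
    set d : G := (c q : G)⁻¹ * c r with hd
    have hdA : d ∈ A N x y := mul_mem (inv_mem (c q).2) (c r).2
    have hdz : d • z = z := by rw [hd, mul_smul, ← h', inv_smul_smul]
    set n : G := (nq q)⁻¹ * nq r with hn
    have hnN : n ∈ N y := mul_mem (inv_mem (hnq q)) (hnq r)
    have hnx : n • x ≠ x := by
      intro e
      refine hqr (Subtype.ext ?_)
      rw [← hnqx, ← hnqx]
      rw [hn, mul_smul, inv_smul_eq_iff] at e
      exact e.symm
    have hτ : tau d n0 = tau a n := by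
      have e1 : tau (c r : G) n0 = tau d n0 * tau (c q : G) n0 := by
        conv_lhs => rw [show (c r : G) = c q * d by rw [hd, mul_inv_cancel_left]]
        exact S.tau_mul_left hxy (c q).2 hdA hn0
      have e2 : tau a (nq r) = tau a (nq q) * tau a n := by
        rw [← S.tau_mul_right ha (hnq q) hnN, hn, mul_inv_cancel_left]
      rw [hc', hc', e2, S.comm y _ (S.tau_mem ha (hnq q)) _ (S.tau_mem ha hnN),
        mul_left_inj] at e1
      exact e1.symm
    have hd1 : d ≠ 1 := fun e => S.tau_ne_one ha ha1 hnx (by rw [← hτ, e]; simp [tau])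
    have := S.fx_tau hxy hdA hn0 hn0x
    rw [hτ, S.fx_tau hxy ha hnN hnx] at this
    have : z ∈ Fx X a := this.symm ▸ hdz
    exact haz this
  have hbij : Function.Bijective Φ := Function.Injective.bijective_of_nat_card_le hinj
    (by rw [Nat.card_coe_set_eq, Nat.card_coe_set_eq, S.card_orb hxy hxz, S.card_orb hxy hxy.symm])
  obtain ⟨q, hq⟩ := hbij.2 ⟨z', S.exists_smul_eq hxz hz' hz'x⟩
  exact ⟨c q, (c q).2, congrArg Subtype.val hq⟩

/-- Every line meets every axis. -/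
theorem meet {a : G} {u v : X} (huv : u ≠ v) (ha : a ∈ N x) :
    ∃ q ∈ T N u v, a • q = q := by
  classical
  by_cases hx : x ∈ T N u v
  · exact ⟨x, hx, S.le x a ha⟩
  set D0 : Subgroup G := A N x u ⊓ A N x v with hD0
  have hDfix : ∀ d ∈ D0, ∀ q ∈ T N u v, d • q = q := fun d hd q hq =>
    S.fix_line (mem_A.1 hd.1).1 huv (mem_A.1 hd.1).2 (mem_A.1 hd.2).2 hq
  have hne : ∀ q ∈ T N u v, x ≠ q := fun q hq e => hx (e ▸ hq)
  have hxu := hne u (S.mem_T_left huv)
  have hxv := hne v (S.mem_T_right huv)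
  set o := (S.Orb x u).ncard with ho
  set P := Nat.card ↥(A N x u) with hP
  set d := Nat.card ↥D0 with hd
  have hvT : v ∉ T N x u := fun h => hx (by
    rw [S.T_eq hxu (S.mem_T_right hxu) h huv]
    exact S.mem_T_left hxu)
  have hPd : P = o * d := by
    have h1 : Nat.card (orbit ↥(A N x u) v) * Nat.card (stabilizer ↥(A N x u) v) = P := by
      rw [← Nat.card_prod]
      exact Nat.card_congr (orbitProdStabilizerEquivGroup ↥(A N x u) v)
    have h2 : Nat.card (stabilizer ↥(A N x u) v) = d :=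
      Nat.card_congr
        { toFun := fun g => ⟨(g.1 : G), g.1.2, mem_A.2 ⟨(mem_A.1 g.1.2).1,
            mem_stabilizer_iff.1 g.2⟩⟩
          invFun := fun a => ⟨⟨a.1, a.2.1⟩, mem_stabilizer_iff.2 (mem_A.1 a.2.2).2⟩
          left_inv := fun _ => rfl
          right_inv := fun _ => rfl }
    have h3 : orbit ↥(A N x u) v = S.Orb x v := by
      ext w
      constructor
      · rintro ⟨g, rfl⟩; exact ⟨g.1, (mem_A.1 g.2).1, rfl⟩
      · intro hw
        obtain ⟨g, hg, e⟩ := S.trans hxu hxv hvT (S.orb_subset_T hxv hw) (S.orb_ne_left hxv hw)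
        exact ⟨⟨g, hg⟩, e⟩
    rw [h2, Nat.card_coe_set_eq, h3, S.card_orb hxu hxv] at h1
    exact h1.symm
  let Y := ↥D0 ⊕ (Σ q : ↥(T N u v), {b : ↥(A N x q.1) // (b : G) ∉ D0})
  let F : Y → ↥(N x) := fun s => match s with
    | Sum.inl b => ⟨b.1, (mem_A.1 b.2.1).1⟩
    | Sum.inr ⟨_, b⟩ => ⟨b.1.1, (mem_A.1 b.1.2).1⟩
  have hinj : Function.Injective F := by
    rintro (b | ⟨q, b, hb⟩) (c | ⟨r, c, hc⟩) h
    · have e : (b : G) = c := congrArg (fun g : ↥(N x) => (g : G)) h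
      rw [Subtype.ext e]
    · have e : (b : G) = c := congrArg (fun g : ↥(N x) => (g : G)) h
      exact (hc (e ▸ b.2)).elim
    · have e : (b : G) = c := congrArg (fun g : ↥(N x) => (g : G)) h
      exact (hb (e ▸ c.2)).elim
    · have e : (b : G) = c := congrArg (fun g : ↥(N x) => (g : G)) h
      obtain rfl : q = r := by
        by_contra hqr
        have hqr' : q.1 ≠ r.1 := fun e => hqr (Subtype.ext e)
        have hfix : ∀ w ∈ T N u v, (b : G) • w = w := fun w hw =>
          S.fix_line (mem_A.1 b.2).1 hqr' (mem_A.1 b.2).2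
            (by rw [e]; exact (mem_A.1 c.2).2) (by rw [S.T_eq huv q.2 r.2 hqr']; exact hw)
        exact hb ⟨mem_A.2 ⟨(mem_A.1 b.2).1, hfix u (S.mem_T_left huv)⟩,
          mem_A.2 ⟨(mem_A.1 b.2).1, hfix v (S.mem_T_right huv)⟩⟩
      obtain rfl : b = c := Subtype.ext e
      rfl
  haveI := Fintype.ofFinite ↥(T N u v)
  have hcardY : Nat.card Y = Nat.card ↥(N x) := by
    have hq : ∀ q : ↥(T N u v), Nat.card {b : ↥(A N x q.1) // (b : G) ∉ D0} = o * d - d := by
      intro q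
      haveI := Fintype.ofFinite ↥(A N x q.1)
      have hsub : D0 ≤ A N x q.1 := fun b hb =>
        mem_A.2 ⟨(mem_A.1 hb.1).1, hDfix b hb q.1 q.2⟩
      rw [Nat.card_eq_fintype_card, Fintype.card_subtype_compl,
        ← Nat.card_eq_fintype_card, ← Nat.card_eq_fintype_card, S.card_A hxu (hne _ q.2),
        ← hP, hPd]
      congr 1
      exact (Nat.card_congr (Subgroup.subgroupOfEquivOfLe hsub).toEquiv :
        Nat.card ↥(D0.subgroupOf (A N x q.1)) = _)
    rw [Nat.card_sum, Nat.card_sigma, Finset.sum_congr rfl (fun q _ => hq q), Finset.sum_const,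
      Finset.card_univ, ← Nat.card_eq_fintype_card, Nat.card_coe_set_eq, S.card_T huv, smul_eq_mul,
      S.card_orb hxu huv, ← S.card_orb_mul x u, ← hP, hPd, ← ho, ← hd]
    rcases Nat.exists_eq_add_of_le (show 1 ≤ o from (S.one_lt_orb hxu).le) with ⟨k, hk⟩
    have e : o * d - d = k * d := by rw [hk, add_mul, one_mul, Nat.add_sub_cancel_left]
    rw [e, hk]
    ring
  obtain ⟨s, hs⟩ := (Function.Injective.bijective_of_nat_card_le hinj hcardY.ge).2 ⟨a, ha⟩
  rcases s with b | ⟨q, b⟩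
  · have e : (b : G) = a := congrArg Subtype.val hs
    exact ⟨u, S.mem_T_left huv, e ▸ hDfix _ b.2 u (S.mem_T_left huv)⟩
  · have e : (b.1 : G) = a := congrArg Subtype.val hs
    exact ⟨q.1, q.2, e ▸ (mem_A.1 b.1.2).2⟩

/-- the Veblen property. -/
theorem veblen {u z1 z2 w v : X} (h1 : u ≠ z1) (h2 : u ≠ z2) (h12 : z1 ≠ z2)
    (hu : z2 ∉ T N u z1) (hw : w ∈ T N u z1) (hwu : w ≠ u) (hv : v ∈ T N u z2) (hvu : v ≠ u) :
    ∃ q, q ∈ T N z1 z2 ∧ q ∈ T N w v := by
  obtain ⟨b1, hb1, e1⟩ := S.exists_smul_eq h1 hw hwu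
  have h2' : b1 • z2 ≠ u := fun e => h2 (by
    rw [smul_eq_iff_eq_inv_smul, S.le u _ (inv_mem hb1)] at e; exact e.symm)
  have hline := S.smul_mem_line h2 hb1
  have hw2 : b1 • z2 ∉ T N u w := by
    intro h
    rw [S.T_eq h1 (S.mem_T_left h1) hw hwu.symm] at h
    have e3 := S.T_eq h1 (S.mem_T_left h1) h (Ne.symm h2')
    have e4 := S.T_eq h2 (S.mem_T_left h2) hline (Ne.symm h2')
    exact hu (e3 ▸ e4.symm ▸ S.mem_T_right h2)
  have hv' : v ∈ T N u (b1 • z2) := by
    rw [S.T_eq h2 (S.mem_T_left h2) hline (Ne.symm h2')]; exact hv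
  obtain ⟨c, hc, e2⟩ := S.trans hwu.symm (Ne.symm h2') hw2 hv' hvu
  have hcb : c * b1 ∈ N u := mul_mem (mem_A.1 hc).1 hb1
  obtain ⟨q, hq, hq'⟩ := S.meet h12 hcb
  refine ⟨q, hq, ?_⟩
  have := S.smul_mem_T (c * b1) hq
  rwa [hq', mul_smul, mul_smul, e1, e2, (mem_A.1 hc).2] at this

theorem exists_moved {a : G} (ha1 : a ≠ 1) : ∃ w : X, a • w ≠ w := by
  by_contra h
  push Not at h
  exact ha1 (FaithfulSMul.eq_of_smul_eq_smul (α := X) fun w => by rw [h w, one_smul])

/-- Nothing beyond an axis is fixed. -/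
theorem eq_one_of_axis {a b : G} {z w : X} (ha : a ∈ N x) (hb : b ∈ N z)
    (hab : Fx X a ⊆ Fx X b) (hw : a • w ≠ w) (hbw : b • w = w) : b = 1 := by
  refine FaithfulSMul.eq_of_smul_eq_smul (α := X) fun v => ?_
  rw [one_smul]
  rcases eq_or_ne w v with rfl | hwv
  · exact hbw
  obtain ⟨q, hq, hq'⟩ := S.meet hwv ha
  have hqw : w ≠ q := fun e => hw (e ▸ hq')
  refine S.fix_line hb hqw hbw (hab hq') ?_
  rw [S.T_eq hwv (S.mem_T_left hwv) hq hqw]
  exact S.mem_T_right hwv

/-- Elations with a given axis are transitive on each line through their centre. -/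
theorem exists_elation {a : G} {w w' : X} (ha : a ∈ N x) (hw : a • w ≠ w)
    (hw' : w' ∈ T N x w) (hw'x : w' ≠ x) :
    ∃ b ∈ N x, Fx X a ⊆ Fx X b ∧ b • w = w' := by
  classical
  have ha1 : a ≠ 1 := fun e => hw (by rw [e, one_smul])
  have hxw : x ≠ w := fun e => hw (e ▸ S.le x a ha)
  -- a second point on the axis
  obtain ⟨y, hxy, hay⟩ : ∃ y, x ≠ y ∧ a • y = y := by
    obtain ⟨c, hc⟩ : ∃ c, c ∉ T N x w := by
      by_contra h
      push Not at h
      obtain ⟨d, hd, hd1⟩ := S.exists_ne_one_A hxw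
      exact hd1 (FaithfulSMul.eq_of_smul_eq_smul (α := X) fun v => by
        rw [one_smul]; exact S.fix_of_mem_T (h v) (Subgroup.mem_sup_left hd))
    have hcw : w ≠ c := fun e => hc (e ▸ S.mem_T_right hxw)
    obtain ⟨q, hq, hq'⟩ := S.meet hcw ha
    refine ⟨q, fun e => hc ?_, hq'⟩
    subst e
    rw [S.T_eq hcw hq (S.mem_T_left hcw) hxw]
    exact S.mem_T_right hcw
  have haA : a ∈ A N x y := mem_A.2 ⟨ha, hay⟩
  obtain ⟨n0, hn0, hn0x⟩ := S.exists_moving hxy
  let θ : ↥(A N x y) → ↥(A N y x) := fun b => ⟨tau (b : G) n0, S.tau_mem_A hxy b.2 hn0⟩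
  have hθ : Function.Bijective θ := Function.Injective.bijective_of_nat_card_le
    (fun b c e => Subtype.ext (S.tau_injOn hxy b.2 c.2 hn0 hn0x (congrArg Subtype.val e)))
    (S.card_A hxy hxy.symm).le
  have hc : ∀ q : ↥(S.Orb y x), ∃ n ∈ N y, n • x = q.1 := fun q => q.2
  choose nq hnq hnqx using hc
  choose c hcθ using fun q : ↥(S.Orb y x) => hθ.2 ⟨tau a (nq q), S.tau_mem_A hxy haA (hnq q)⟩
  have hc' : ∀ q, tau (c q : G) n0 = tau a (nq q) := fun q => congrArg Subtype.val (hcθ q)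
  have hax : ∀ q, Fx X a ⊆ Fx X (c q : G) := by
    intro q
    rw [← S.fx_tau hxy (c q).2 hn0 hn0x, hc']
    exact S.fx_subset_fx_tau haA (hnq q)
  let Φ : ↥(S.Orb y x) → ↥(S.Orb x w) := fun q =>
    ⟨(c q : G) • w, c q, (mem_A.1 (c q).2).1, rfl⟩
  have hinj : Function.Injective Φ := by
    intro q r h
    have h' : (c q : G) • w = (c r : G) • w := congrArg Subtype.val h
    have e : (c q : G)⁻¹ * c r = 1 := by
      refine S.eq_one_of_axis ha (mul_mem (inv_mem (mem_A.1 (c q).2).1) (mem_A.1 (c r).2).1)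
        (fun v hv => ?_) hw (by rw [mul_smul, ← h', inv_smul_smul])
      show ((c q : G)⁻¹ * c r) • v = v
      rw [mul_smul, (hax r hv : (c r : G) • v = v), inv_smul_eq_iff.2 (hax q hv).symm]
    have e2 : tau a (nq q) = tau a (nq r) := by rw [← hc', ← hc', inv_mul_eq_one.1 e]
    refine Subtype.ext ?_
    rw [← hnqx, ← hnqx]
    by_contra hne
    have hn : ((nq q)⁻¹ * nq r) • x ≠ x := fun e3 => hne (by
      rw [mul_smul, inv_smul_eq_iff] at e3; exact e3.symm)
    refine S.tau_ne_one haA ha1 hn ?_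
    have h3 := S.tau_mul_right haA (hnq q) (mul_mem (inv_mem (hnq q)) (hnq r))
    rw [mul_inv_cancel_left, ← e2, left_eq_mul] at h3
    exact h3
  have hbij : Function.Bijective Φ := Function.Injective.bijective_of_nat_card_le hinj
    (by rw [Nat.card_coe_set_eq, Nat.card_coe_set_eq, S.card_orb hxy hxw, S.card_orb hxy hxy.symm])
  obtain ⟨q, hq⟩ := hbij.2 ⟨w', S.exists_smul_eq hxw hw' hw'x⟩
  exact ⟨c q, (mem_A.1 (c q).2).1, hax q, congrArg Subtype.val hq⟩

end Sys

end Cfsg.Agent.Lib.ONan64
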