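import Cfsg.Agent.Lib.ONan64.Space
import Cfsg.Agent.Lib.ONan64.Spec

/-!
The translation group of an axis.
-/

set_option autoImplicit false
set_option linter.unusedSectionVars false

namespace Cfsg.Agent.Lib.ONan64

open MulAction

variable {G X : Type*} [Group G] [MulAction G X]

/-- The elements of `N z` fixing `Hs` pointwise. -/
def El (N : X → Subgroup G) (Hs : Set X) (z : X) : Subgroup G where
  carrier := {b | b ∈ N z ∧ ∀ h ∈ Hs, b • h = h}
  one_mem' := ⟨one_mem _, fun h _ => one_smul _ h⟩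
  mul_mem' := fun {a b} ha hb => ⟨mul_mem ha.1 hb.1, fun h hh => by
    rw [mul_smul, hb.2 h hh, ha.2 h hh]⟩
  inv_mem' := fun {a} ha => ⟨inv_mem ha.1, fun h hh => inv_smul_eq_iff.2 (ha.2 h hh).symm⟩

variable {N : X → Subgroup G}

theorem mem_El {Hs : Set X} {z : X} {b : G} :
    b ∈ El N Hs z ↔ b ∈ N z ∧ ∀ h ∈ Hs, b • h = h := Iff.rfl

/-- An axis with a base point outside it. -/
structure Frame (N : X → Subgroup G) (x0 : X) (a0 : G) (w0 : X) : Prop where
  mem : a0 ∈ N x0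
  moved : a0 • w0 ≠ w0

namespace Sys

variable {p : ℕ} (S : Sys N p) [Finite G] [Finite X] [FaithfulSMul G X]
variable {x0 w0 : X} {a0 : G}
include S

theorem axis_closed (R : Frame N x0 a0 w0) {u v w : X} (huv : u ≠ v) (hu : u ∈ Fx X a0)
    (hv : v ∈ Fx X a0) (hw : w ∈ T N u v) : w ∈ Fx X a0 :=
  S.fix_line R.mem huv hu hv hw

theorem El_trans (R : Frame N x0 a0 w0) {z w w' : X} (hz : z ∈ Fx X a0) (hw : w ∉ Fx X a0)
    (hw' : w' ∈ T N z w) (hne : w' ≠ z) : ∃ e ∈ El N (Fx X a0) z, e • w = w' := by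
  have ha1 : a0 ≠ 1 := fun e => R.moved (by rw [e, one_smul])
  obtain ⟨b, hb, -, hfb⟩ := S.exists_elation_centre R.mem ha1 hz
  have hbw : b • w ≠ w := fun e => hw (hfb ▸ (e : w ∈ Fx X b))
  obtain ⟨e, he, hfe, hew⟩ := S.exists_elation hb hbw hw' hne
  exact ⟨e, ⟨he, fun h hh => hfe (hfb.symm ▸ hh)⟩, hew⟩

theorem El_fix (R : Frame N x0 a0 w0) {z w : X} {e : G} (he : e ∈ El N (Fx X a0) z)
    (hw : w ∉ Fx X a0) (h : e • w = w) : e = 1 :=
  S.eq_one_of_axis R.mem he.1 (fun v hv => he.2 v hv) hw h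

theorem El_comm {z1 z2 : X} {e1 e2 : G} (h1 : z1 ∈ Fx X a0) (h2 : z2 ∈ Fx X a0)
    (he1 : e1 ∈ El N (Fx X a0) z1) (he2 : e2 ∈ El N (Fx X a0) z2) : e1 * e2 = e2 * e1 := by
  rcases eq_or_ne z1 z2 with rfl | hne
  · exact S.comm z1 e1 he1.1 e2 he2.1
  · exact S.A_comm hne (mem_A.2 ⟨he1.1, he1.2 z2 h2⟩) (mem_A.2 ⟨he2.1, he2.2 z1 h1⟩)

theorem smul_notMem {e : G} {w : X} (hfix : ∀ h ∈ Fx X a0, e • h = h) (hw : w ∉ Fx X a0) :
    e • w ∉ Fx X a0 := fun h => hw (by
  have h1 := hfix _ h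
  rw [smul_left_cancel_iff] at h1
  exact h1 ▸ h)

/-- Any two points off the axis lie in one orbit of a translation. -/
theorem exists_translation (R : Frame N x0 a0 w0) {w w' : X} (hw : w ∉ Fx X a0)
    (hw' : w' ∉ Fx X a0) : ∃ z ∈ Fx X a0, ∃ e ∈ El N (Fx X a0) z, e • w = w' := by
  rcases eq_or_ne w w' with rfl | hne
  · exact ⟨x0, S.le x0 a0 R.mem, 1, one_mem _, one_smul _ _⟩
  obtain ⟨z, hz, hz'⟩ := S.meet hne R.mem
  have hzw : z ≠ w := fun e => hw (e ▸ hz')
  have hzw' : z ≠ w' := fun e => hw' (e ▸ hz')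
  obtain ⟨e, he, hew⟩ := S.El_trans R hz' hw (w' := w')
    (by rw [S.T_eq hne hz (S.mem_T_left hne) hzw]; exact S.mem_T_right hne) hzw'.symm
  exact ⟨z, hz', e, he, hew⟩

/-- A product of translations fixing a point outside the axis is trivial. -/
theorem eq_one_of_fix (R : Frame N x0 a0 w0) {g : G} {w : X} (hw : w ∉ Fx X a0)
    (hH : ∀ h ∈ Fx X a0, g • h = h)
    (hc : ∀ z ∈ Fx X a0, ∀ e ∈ El N (Fx X a0) z, g * e = e * g) (h : g • w = w) : g = 1 := by
  refine FaithfulSMul.eq_of_smul_eq_smul (α := X) fun v => ?_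
  rw [one_smul]
  by_cases hv : v ∈ Fx X a0
  · exact hH v hv
  obtain ⟨z, hz, e, he, rfl⟩ := S.exists_translation R hw hv
  rw [← mul_smul, hc z hz e he, mul_smul, h]

/-- The translation group. -/
def translations (R : Frame N x0 a0 w0) : Subgroup G where
  carrier := {g | ∃ z ∈ Fx X a0, g ∈ El N (Fx X a0) z}
  one_mem' := ⟨x0, S.le x0 a0 R.mem, one_mem _⟩
  inv_mem' := fun {a} ⟨z, hz, ha⟩ => ⟨z, hz, inv_mem ha⟩
  mul_mem' := fun {a b} ⟨z1, h1, ha⟩ ⟨z2, h2, hb⟩ => by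
    have hH : ∀ h ∈ Fx X a0, (a * b) • h = h := fun h hh => by
      rw [mul_smul, hb.2 h hh, ha.2 h hh]
    have hw0 : w0 ∉ Fx X a0 := R.moved
    obtain ⟨z, hz, e, he, hew⟩ := S.exists_translation R hw0 (S.smul_notMem hH hw0)
    refine ⟨z, hz, ?_⟩
    suffices e⁻¹ * (a * b) = 1 by
      rw [← inv_mul_eq_one.1 this]; exact he
    refine S.eq_one_of_fix R hw0 (fun h hh => ?_) (fun z' hz' e' he' => ?_) ?_
    · rw [mul_smul, hH h hh, (inv_mem he : e⁻¹ ∈ El N (Fx X a0) z).2 h hh]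
    · have c1 := S.El_comm hz hz' (inv_mem he) he'
      have c2 := S.El_comm h1 hz' ha he'
      have c3 := S.El_comm h2 hz' hb he'
      rw [mul_assoc e⁻¹, mul_assoc a, c3, ← mul_assoc a, c2, mul_assoc e', ← mul_assoc e⁻¹,
        c1, mul_assoc]
    · rw [mul_smul, ← hew, inv_smul_smul]

theorem mem_translations {R : Frame N x0 a0 w0} {g : G} :
    g ∈ S.translations R ↔ ∃ z ∈ Fx X a0, g ∈ El N (Fx X a0) z := Iff.rfl

theorem El_le (R : Frame N x0 a0 w0) {z : X} (hz : z ∈ Fx X a0) :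
    El N (Fx X a0) z ≤ S.translations R := fun _ he => ⟨z, hz, he⟩

theorem translations_fix (R : Frame N x0 a0 w0) {g : G} (hg : g ∈ S.translations R) :
    ∀ h ∈ Fx X a0, g • h = h := by
  obtain ⟨z, -, he⟩ := hg; exact he.2

theorem translations_comm (R : Frame N x0 a0 w0) {g g' : G} (hg : g ∈ S.translations R)
    (hg' : g' ∈ S.translations R) : g * g' = g' * g := by
  obtain ⟨z, hz, he⟩ := hg
  obtain ⟨z', hz', he'⟩ := hg'
  exact S.El_comm hz hz' he he'

theorem translations_inj (R : Frame N x0 a0 w0) {g g' : G} {w : X} (hg : g ∈ S.translations R)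
    (hg' : g' ∈ S.translations R) (hw : w ∉ Fx X a0) (h : g • w = g' • w) : g = g' := by
  obtain ⟨z, -, he⟩ := mul_mem (inv_mem hg) hg'
  exact inv_mul_eq_one.1 (S.El_fix R he hw (by rw [mul_smul, ← h, inv_smul_smul]))

/-- The translations are regular off the axis. -/
theorem translations_trans (R : Frame N x0 a0 w0) {w : X} (hw : w ∉ Fx X a0) :
    ∃ g ∈ S.translations R, g • w0 = w := by
  obtain ⟨z, hz, e, he, hew⟩ := S.exists_translation R R.moved hw
  exact ⟨e, ⟨z, hz, he⟩, hew⟩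

theorem El_inj (R : Frame N x0 a0 w0) {z z' : X} {e : G} (h : e ∈ El N (Fx X a0) z)
    (h' : e ∈ El N (Fx X a0) z') (he : e ≠ 1) : z = z' := by
  by_contra hne
  exact he (S.eq_one_of_mem hne h.1 h'.1)

theorem line_axis (R : Frame N x0 a0 w0) {z w v : X} (hz : z ∈ Fx X a0) (hw : w ∉ Fx X a0)
    (hv : v ∈ T N z w) (hvH : v ∈ Fx X a0) : v = z := by
  by_contra hne
  have hzw : z ≠ w := fun e => hw (e ▸ hz)
  refine hw (S.axis_closed R (Ne.symm hne) hz hvH ?_)
  rw [S.T_eq hzw (S.mem_T_left hzw) hv (Ne.symm hne)]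
  exact S.mem_T_right hzw

theorem El_smul_mem (R : Frame N x0 a0 w0) {z w : X} {e : G} (hz : z ∈ Fx X a0)
    (hw : w ∉ Fx X a0) (he : e ∈ El N (Fx X a0) z) : e • w ∈ T N z w :=
  S.smul_mem_line (fun h => hw (h ▸ hz)) he.1

/-- A component meeting the product of two lies on their line. -/
theorem mem_line_of_product (R : Frame N x0 a0 w0) {z1 z2 z : X} {e1 e2 e : G}
    (h1 : z1 ∈ Fx X a0) (h2 : z2 ∈ Fx X a0) (hz : z ∈ Fx X a0) (h12 : z1 ≠ z2)
    (he1 : e1 ∈ El N (Fx X a0) z1) (he2 : e2 ∈ El N (Fx X a0) z2)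
    (he : e ∈ El N (Fx X a0) z) (hne : e ≠ 1) (heq : e = e1 * e2) : z ∈ T N z1 z2 := by
  have hw0 : w0 ∉ Fx X a0 := R.moved
  rcases eq_or_ne e2 1 with rfl | he2'
  · rw [mul_one] at heq; subst heq
    rw [S.El_inj R he he1 hne]; exact S.mem_T_left h12
  rcases eq_or_ne e1 1 with rfl | he1'
  · rw [one_mul] at heq; subst heq
    rw [S.El_inj R he he2 hne]; exact S.mem_T_right h12
  set u := e2 • w0 with hu
  have huH : u ∉ Fx X a0 := S.smul_notMem he2.2 hw0
  have huw : u ≠ w0 := fun h => he2' (S.El_fix R he2 hw0 h)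
  have huv : u ≠ e • w0 := fun h => he1' (S.El_fix R he1 huH (by
    rw [hu, ← mul_smul, ← heq]; exact h.symm))
  have hu1 : u ≠ z1 := fun h => huH (h ▸ h1)
  have hu2 : u ≠ z2 := fun h => huH (h ▸ h2)
  have hz2w : z2 ≠ w0 := fun h => hw0 (h ▸ h2)
  have hzw : z ≠ w0 := fun h => hw0 (h ▸ hz)
  have hside : z1 ∉ T N u z2 := fun h => h12 (S.line_axis R h2 huH (S.T_comm hu2 ▸ h) h1)
  have hwl : w0 ∈ T N u z2 := by
    rw [S.T_eq hz2w (S.El_smul_mem R h2 hw0 he2) (S.mem_T_left hz2w) hu2]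
    exact S.mem_T_right hz2w
  have hvl : e • w0 ∈ T N u z1 := by
    rw [S.T_comm hu1, heq, mul_smul]
    exact S.El_smul_mem R h1 huH he1
  obtain ⟨q, hq, hq'⟩ := S.veblen hu2 hu1 h12.symm hside hwl huw.symm hvl huv.symm
  have hqH : q ∈ Fx X a0 := S.axis_closed R h12.symm h2 h1 hq
  have hwe : w0 ≠ e • w0 := fun h => hne (S.El_fix R he hw0 h.symm)
  rw [S.T_eq hzw (S.mem_T_right hzw) (S.El_smul_mem R hz hw0 he) hwe] at hq'
  rw [← S.line_axis R hz hw0 hq' hqH, S.T_comm h12]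
  exact hq

/-- The component of a point of a line is inside the product of two. -/
theorem El_le_product (R : Frame N x0 a0 w0) {z1 z2 z : X} (h1 : z1 ∈ Fx X a0)
    (h2 : z2 ∈ Fx X a0) (h12 : z1 ≠ z2) (hl : z ∈ T N z1 z2) {e : G}
    (he : e ∈ El N (Fx X a0) z) :
    ∃ e1 ∈ El N (Fx X a0) z1, ∃ e2 ∈ El N (Fx X a0) z2, e = e1 * e2 := by
  have hw0 : w0 ∉ Fx X a0 := R.moved
  have hz : z ∈ Fx X a0 := S.axis_closed R h12 h1 h2 hl
  rcases eq_or_ne z z1 with rfl | hz1
  · exact ⟨e, he, 1, one_mem _, (mul_one e).symm⟩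
  rcases eq_or_ne z z2 with rfl | hz2
  · exact ⟨1, one_mem _, e, he, (one_mul e).symm⟩
  rcases eq_or_ne e 1 with rfl | hne
  · exact ⟨1, one_mem _, 1, one_mem _, (one_mul 1).symm⟩
  set v := e • w0 with hv
  have hvH : v ∉ Fx X a0 := S.smul_notMem he.2 hw0
  have hzw : z ≠ w0 := fun h => hw0 (h ▸ hz)
  have hline : z1 ∈ T N z z2 := by
    rw [S.T_eq h12 hl (S.mem_T_right h12) hz2]; exact S.mem_T_left h12
  obtain ⟨u, hu, hu'⟩ := S.veblen (u := z) (z1 := w0) (z2 := z2) (w := v) (v := z1) hzw hz2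
    (fun h => hw0 (h ▸ h2)) (fun h => hz2 (S.line_axis R hz hw0 h h2).symm)
    (S.El_smul_mem R hz hw0 he) (fun h => hvH (h ▸ hz)) hline hz1.symm
  have h2w : z2 ≠ w0 := fun h => hw0 (h ▸ h2)
  have h1v : z1 ≠ v := fun h => hvH (h ▸ h1)
  rw [S.T_comm h2w.symm] at hu
  rw [S.T_comm h1v.symm] at hu'
  have huH : u ∉ Fx X a0 := fun h => h12 ((S.line_axis R h1 hvH hu' h).symm.trans
    (S.line_axis R h2 hw0 hu h))
  have hu2 : u ≠ z2 := fun h => huH (h ▸ h2)
  have hu1 : u ≠ z1 := fun h => huH (h ▸ h1)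
  obtain ⟨e2, he2, hew2⟩ := S.El_trans R h2 hw0 hu hu2
  obtain ⟨e1, he1, hew1⟩ := S.El_trans R h1 huH (w' := v)
    (by rw [S.T_eq h1v (S.mem_T_left h1v) hu' hu1.symm]; exact S.mem_T_right h1v) h1v.symm
  refine ⟨e1, he1, e2, he2, S.translations_inj R (S.El_le R hz he)
    (mul_mem (S.El_le R h1 he1) (S.El_le R h2 he2)) hw0 ?_⟩
  rw [mul_smul, hew2, hew1]

theorem card_El (R : Frame N x0 a0 w0) {z : X} (hz : z ∈ Fx X a0) :
    Nat.card ↥(El N (Fx X a0) z) = (S.Orb z w0).ncard := by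
  have hzw : z ≠ w0 := fun h => R.moved (h ▸ hz)
  rw [← Nat.card_coe_set_eq]
  refine Nat.card_congr (Equiv.ofBijective (fun e => ⟨(e : G) • w0, (e : G), e.2.1, rfl⟩) ⟨?_, ?_⟩)
  · intro e f h
    exact Subtype.ext (S.translations_inj R (S.El_le R hz e.2) (S.El_le R hz f.2) R.moved
      (congrArg Subtype.val h))
  · rintro ⟨w, hw⟩
    obtain ⟨e, he, hew⟩ := S.El_trans R hz R.moved (S.orb_subset_T hzw hw) (S.orb_ne_left hzw hw)
    exact ⟨⟨e, he⟩, Subtype.ext hew⟩

theorem exists_axis_point (R : Frame N x0 a0 w0) : ∃ z ∈ Fx X a0, z ≠ x0 := by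
  have hxw : x0 ≠ w0 := fun h => R.moved (h ▸ S.le x0 a0 R.mem)
  obtain ⟨d, hd, hd1⟩ := S.exists_ne_one_A hxw
  obtain ⟨c, hc⟩ := S.exists_moved hd1
  have hcT : c ∉ T N x0 w0 := fun h => hc (S.fix_of_mem_T h (Subgroup.mem_sup_left hd))
  have hcw : w0 ≠ c := fun e => hcT (e ▸ S.mem_T_right hxw)
  obtain ⟨q, hq, hq'⟩ := S.meet hcw R.mem
  refine ⟨q, hq', fun e => hcT ?_⟩
  subst e
  rw [S.T_eq hcw hq (S.mem_T_left hcw) hxw]
  exact S.mem_T_right hcw

/-- The number of translations. -/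
theorem card_translations (R : Frame N x0 a0 w0) {x y : X} (hxy : x ≠ y) :
    Nat.card ↥(S.translations R) + (Fx X a0).ncard = Nat.card X ∧
      Nat.card ↥(S.translations R) + (Fx X a0).ncard =
        (Fx X a0).ncard * (S.Orb x y).ncard + 1 := by
  classical
  haveI := Fintype.ofFinite X
  refine ⟨?_, ?_⟩
  · have : Nat.card ↥(S.translations R) = (Fx X a0)ᶜ.ncard := by
      rw [← Nat.card_coe_set_eq]
      refine Nat.card_congr (Equiv.ofBijective (fun g => ⟨(g : G) • w0,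
        S.smul_notMem (S.translations_fix R g.2) R.moved⟩) ⟨?_, ?_⟩)
      · intro g g' h
        exact Subtype.ext (S.translations_inj R g.2 g'.2 R.moved (congrArg Subtype.val h))
      · rintro ⟨w, hw⟩
        obtain ⟨g, hg, hgw⟩ := S.translations_trans R hw
        exact ⟨⟨g, hg⟩, Subtype.ext hgw⟩
    rw [this, add_comm, Set.ncard_add_ncard_compl]
  · let Y := Unit ⊕ (Σ z : ↥(Fx X a0), {e : ↥(El N (Fx X a0) z.1) // e ≠ 1})
    let F : Y → ↥(S.translations R) := fun s => match s with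
      | Sum.inl _ => 1
      | Sum.inr ⟨z, e⟩ => ⟨e.1.1, S.El_le R z.2 e.1.2⟩
    have hF : Function.Bijective F := by
      refine ⟨?_, ?_⟩
      · rintro (_ | ⟨z, e, he⟩) (_ | ⟨z', e', he'⟩) h
        · rfl
        · exact (he' (Subtype.ext (congrArg (fun g : ↥(S.translations R) => (g : G)) h).symm)).elim
        · exact (he (Subtype.ext (congrArg (fun g : ↥(S.translations R) => (g : G)) h))).elim
        · have h' : (e : G) = e' := congrArg (fun g : ↥(S.translations R) => (g : G)) h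
          obtain rfl : z = z' := Subtype.ext (S.El_inj R e.2 (by rw [h']; exact e'.2)
            fun h1 => he (Subtype.ext h1))
          obtain rfl : e = e' := Subtype.ext h'
          rfl
      · rintro ⟨g, hg⟩
        rcases eq_or_ne g 1 with rfl | hg1
        · exact ⟨Sum.inl (), rfl⟩
        obtain ⟨z, hz, he⟩ := hg
        exact ⟨Sum.inr ⟨⟨z, hz⟩, ⟨g, he⟩, fun h => hg1 (congrArg Subtype.val h)⟩, rfl⟩
    haveI := Fintype.ofFinite ↥(Fx X a0)
    set o := (S.Orb x y).ncard with ho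
    have hz : ∀ z : ↥(Fx X a0), Nat.card {e : ↥(El N (Fx X a0) z.1) // e ≠ 1} = o - 1 := by
      intro z
      haveI := Fintype.ofFinite ↥(El N (Fx X a0) z.1)
      rw [Nat.card_eq_fintype_card, Fintype.card_subtype_compl, Fintype.card_subtype_eq,
        ← Nat.card_eq_fintype_card, S.card_El R z.2,
        S.card_orb hxy fun h : z.1 = w0 => R.moved (h ▸ z.2)]
    rw [← Nat.card_congr (Equiv.ofBijective F hF), Nat.card_sum, Nat.card_sigma,
      Finset.sum_congr rfl (fun z _ => hz z), Finset.sum_const, Finset.card_univ,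
      ← Nat.card_eq_fintype_card, Nat.card_coe_set_eq, Nat.card_unique, smul_eq_mul]
    rcases Nat.exists_eq_add_of_le (S.one_lt_orb hxy).le with ⟨k, hk⟩
    rw [← ho] at hk
    rw [hk, Nat.add_sub_cancel_left]
    ring

/-- Translations are permuted by the elations through `w0`. -/
theorem conj_El (R : Frame N x0 a0 w0) {c z : X} {n e : G} (hc : c ∈ Fx X a0)
    (hn : n ∈ N c) (he : e ∈ El N (Fx X a0) z) :
    n * e * n⁻¹ ∈ El N (Fx X a0) (n • z) := by
  refine ⟨S.conj n z e he.1, fun h hh => ?_⟩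
  have h' : n⁻¹ • h ∈ Fx X a0 := by
    rcases eq_or_ne c h with rfl | hch
    · rw [S.le c _ (inv_mem hn)]; exact hh
    · exact S.axis_closed R hch hc hh (S.smul_mem_line hch (inv_mem hn))
  rw [mul_smul, mul_smul, he.2 _ h', smul_inv_smul]

theorem smul_axis (R : Frame N x0 a0 w0) {c h : X} {n : G} (hc : c ∈ Fx X a0) (hn : n ∈ N c)
    (hh : h ∈ Fx X a0) : n • h ∈ Fx X a0 := by
  rcases eq_or_ne c h with rfl | hch
  · rw [S.le c _ hn]; exact hh
  · exact S.axis_closed R hch hc hh (S.smul_mem_line hch hn)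

/-- The components in the additive group of translations. -/
def comp (R : Frame N x0 a0 w0) (z : ↥(Fx X a0)) : AddSubgroup (Additive ↥(S.translations R)) :=
  Subgroup.toAddSubgroup ((El N (Fx X a0) z.1).subgroupOf (S.translations R))

theorem mem_comp {R : Frame N x0 a0 w0} {z : ↥(Fx X a0)} {g : Additive ↥(S.translations R)} :
    g ∈ S.comp R z ↔ ((Additive.toMul g : ↥(S.translations R)) : G) ∈ El N (Fx X a0) z.1 :=
  Iff.rfl

/-- The additive group of translations is commutative. -/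
@[reducible] def transComm (R : Frame N x0 a0 w0) : AddCommGroup (Additive ↥(S.translations R)) :=
  { (inferInstance : AddGroup (Additive ↥(S.translations R))) with
    add_comm := fun g g' => Additive.toMul.injective
      (Subtype.ext (S.translations_comm R (Additive.toMul g).2 (Additive.toMul g').2)) }

theorem mem_sup_comp (R : Frame N x0 a0 w0) {z1 z2 : ↥(Fx X a0)}
    {g : Additive ↥(S.translations R)} :
    g ∈ S.comp R z1 ⊔ S.comp R z2 ↔ ∃ e1 ∈ El N (Fx X a0) z1.1, ∃ e2 ∈ El N (Fx X a0) z2.1,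
      ((Additive.toMul g : ↥(S.translations R)) : G) = e1 * e2 := by
  letI := S.transComm R
  rw [AddSubgroup.mem_sup]
  constructor
  · rintro ⟨a, ha, b, hb, rfl⟩
    exact ⟨_, ha, _, hb, rfl⟩
  · rintro ⟨e1, h1, e2, h2, h⟩
    exact ⟨Additive.ofMul ⟨e1, S.El_le R z1.2 h1⟩, h1, Additive.ofMul ⟨e2, S.El_le R z2.2 h2⟩, h2,
      Additive.toMul.injective (Subtype.ext h.symm)⟩

theorem mem_T_of_le (R : Frame N x0 a0 w0) {z1 z2 z : ↥(Fx X a0)} (h12 : z1 ≠ z2)
    {g : Additive ↥(S.translations R)} (hg : g ∈ S.comp R z) (hg0 : g ≠ 0)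
    (hsup : g ∈ S.comp R z1 ⊔ S.comp R z2) : z.1 ∈ T N z1.1 z2.1 := by
  obtain ⟨e1, h1, e2, h2, h⟩ := (S.mem_sup_comp R).1 hsup
  exact S.mem_line_of_product R z1.2 z2.2 z.2 (fun e => h12 (Subtype.ext e)) h1 h2 hg
    (fun e => hg0 (Additive.toMul.injective (Subtype.ext e))) h

theorem comp_le_of_mem_T (R : Frame N x0 a0 w0) {z1 z2 z : ↥(Fx X a0)} (h12 : z1 ≠ z2)
    (h : z.1 ∈ T N z1.1 z2.1) : S.comp R z ≤ S.comp R z1 ⊔ S.comp R z2 := fun _ hg =>
  (S.mem_sup_comp R).2 (S.El_le_product R z1.2 z2.2 (fun e => h12 (Subtype.ext e)) h hg)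

/-- The translations form a geometric spread with shears. -/
theorem geomSpread (R : Frame N x0 a0 w0) {x y : X} (hxy : x ≠ y) :
    letI := S.transComm R
    GeomSpread (Additive ↥(S.translations R)) (S.comp R) p (S.Orb x y).ncard := by
  letI := S.transComm R
  have hcard : ∀ z : ↥(Fx X a0), Nat.card ↥(S.comp R z) = (S.Orb x y).ncard := by
    intro z
    rw [← S.card_orb hxy (u := z.1) (v := w0) fun h => R.moved (h ▸ z.2), ← S.card_El R z.2]
    exact Nat.card_congr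
      { toFun := fun g => ⟨((Additive.toMul g.1 : ↥(S.translations R)) : G), g.2⟩
        invFun := fun e => ⟨Additive.ofMul ⟨e.1, S.El_le R z.2 e.2⟩, e.2⟩
        left_inv := fun _ => rfl
        right_inv := fun _ => rfl }
  have hone : 1 < (S.Orb x y).ncard := S.one_lt_orb hxy
  refine ⟨S.prime, ?_, hcard, hone, ?_, ?_, ?_, ?_, ?_⟩
  · intro g
    obtain ⟨z, -, he⟩ := (Additive.toMul g).2
    refine Additive.toMul.injective (Subtype.ext ?_)
    show ((Additive.toMul g : ↥(S.translations R)) : G) ^ p = 1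
    exact S.expo z _ he.1
  · obtain ⟨q, hq, hq0⟩ := S.exists_axis_point R
    exact ⟨⟨x0, S.le x0 a0 R.mem⟩, ⟨q, hq⟩, fun e => hq0 (congrArg Subtype.val e).symm⟩
  · intro g _
    obtain ⟨z, hz, he⟩ := (Additive.toMul g).2
    exact ⟨⟨z, hz⟩, he⟩
  · intro z1 z2 g h1 h2 hg
    exact Subtype.ext (S.El_inj R h1 h2 fun e => hg (Additive.toMul.injective (Subtype.ext e)))
  · intro z1 z2 z g hg hg0 hsup
    rcases eq_or_ne z1 z2 with rfl | h12
    · rw [sup_idem] at hsup ⊢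
      rw [Subtype.ext (S.El_inj R hg hsup fun e => hg0 (Additive.toMul.injective (Subtype.ext e)))]
    · exact S.comp_le_of_mem_T R h12 (S.mem_T_of_le R h12 hg hg0 hsup)
  · intro c z1 z2 h1c h2c hle
    have hcz : c.1 ≠ z1.1 := fun e => h1c (Subtype.ext e.symm)
    have hcw : c.1 ≠ w0 := fun h => R.moved (h ▸ c.2)
    obtain ⟨g, hg, hg0⟩ : ∃ g ∈ S.comp R z2, g ≠ 0 := by
      haveI : Nontrivial ↥(S.comp R z2) :=
        Finite.one_lt_card_iff_nontrivial.1 (by rw [hcard]; exact hone)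
      obtain ⟨g, hg⟩ := exists_ne (0 : ↥(S.comp R z2))
      exact ⟨g, g.2, fun e => hg (Subtype.ext e)⟩
    have hl := S.mem_T_of_le R h1c.symm hg hg0 (hle hg)
    have hz1 : z1.1 ∉ T N c.1 w0 := fun h => hcz (S.line_axis R c.2 R.moved h z1.2).symm
    obtain ⟨n, hn, hnz⟩ := S.trans hcw hcz hz1 hl fun e => h2c (Subtype.ext e)
    have hnN := (mem_A.1 hn).1
    have hconj : ∀ k ∈ N c.1, ∀ g ∈ S.translations R, k * g * k⁻¹ ∈ S.translations R := by
      rintro k hk g ⟨z, hz, he⟩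
      exact ⟨k • z, S.smul_axis R c.2 hk hz, S.conj_El R c.2 hk he⟩
    have hback : ∀ g : G, n⁻¹ * g * n = n⁻¹ * g * (n⁻¹)⁻¹ := fun g => by rw [inv_inv]
    let σ : Additive ↥(S.translations R) ≃+ Additive ↥(S.translations R) :=
      { toFun := fun g => Additive.ofMul ⟨n * (Additive.toMul g).1 * n⁻¹,
          hconj n hnN _ (Additive.toMul g).2⟩
        invFun := fun g => Additive.ofMul ⟨n⁻¹ * (Additive.toMul g).1 * n, by
          rw [hback]; exact hconj n⁻¹ (inv_mem hnN) _ (Additive.toMul g).2⟩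
        left_inv := fun g => Additive.toMul.injective (Subtype.ext (by simp [mul_assoc]))
        right_inv := fun g => Additive.toMul.injective (Subtype.ext (by simp [mul_assoc]))
        map_add' := fun g h => Additive.toMul.injective (Subtype.ext (by simp [mul_assoc])) }
    have hmap : ∀ z : ↥(Fx X a0), (S.comp R z).map σ.toAddMonoidHom =
        S.comp R ⟨n • z.1, S.smul_axis R c.2 hnN z.2⟩ := by
      intro z
      ext g
      rw [AddSubgroup.mem_map]
      constructor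
      · rintro ⟨h, hh, rfl⟩
        exact S.conj_El R c.2 hnN hh
      · intro hg
        refine ⟨σ.symm g, ?_, σ.apply_symm_apply g⟩
        have h := S.conj_El R c.2 (inv_mem hnN) hg
        rw [inv_smul_smul, inv_inv] at h
        exact h
    refine ⟨σ, ?_, ?_, fun z => ⟨_, hmap z⟩, ?_⟩
    · intro g
      set q := ((Additive.toMul g : ↥(S.translations R)) : G) with hq
      have hqw : q • w0 ∉ Fx X a0 :=
        S.smul_notMem (S.translations_fix R (Additive.toMul g).2) R.moved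
      have hcq : c.1 ≠ q • w0 := fun e => hqw (e ▸ c.2)
      have hne : n • (q • w0) ≠ c.1 := fun e => hcq (by
        rw [smul_eq_iff_eq_inv_smul, S.le c.1 _ (inv_mem hnN)] at e; exact e.symm)
      obtain ⟨e, he, hew⟩ := S.El_trans R c.2 hqw (S.smul_mem_line hcq hnN) hne
      have h1 : n * q * n⁻¹ = e * q := by
        refine S.translations_inj R (hconj n hnN q (Additive.toMul g).2)
          (mul_mem (S.El_le R c.2 he) (Additive.toMul g).2) R.moved ?_
        rw [mul_smul, mul_smul, mul_smul, inv_smul_eq_iff.2 (mem_A.1 hn).2.symm, hew]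
      rw [S.mem_comp, toMul_sub, Subgroup.coe_div, div_eq_mul_inv]
      show n * q * n⁻¹ * q⁻¹ ∈ El N (Fx X a0) c.1
      rw [h1, mul_inv_cancel_right]; exact he
    · intro g hg
      refine Additive.toMul.injective (Subtype.ext ?_)
      show n * (Additive.toMul g).1 * n⁻¹ = (Additive.toMul g).1
      rw [show n * (Additive.toMul g).1 = (Additive.toMul g).1 * n from S.comm c.1 n hnN _ hg.1,
        mul_inv_cancel_right]
    · rw [hmap]
      exact congrArg _ (Subtype.ext hnz)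

end Sys

end Cfsg.Agent.Lib.ONan64
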